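import Cfsg.Agent.Lib.QS3.Model

/-!
Groups with an involution centraliser `Q.S₃`: the relations of the enumerations for the type 0.
-/

set_option autoImplicit false

namespace CfsgQS3.Zero

/-- The relations of case A. -/
def relsA : List (List ℕ) := [
  [0, 0],
  [1, 1, 1],
  [2, 2],
  [2, 1, 2, 1],
  [1, 0, 1, 0, 6, 6, 0],
  [2, 6, 0, 1, 2, 0, 1, 2, 0, 2, 6, 0],
  [3, 3, 3],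
  [8, 5, 7, 5, 6, 7, 5, 6, 3, 2],
  [0, 8, 6, 5, 7, 6, 5, 3, 2, 0, 2],
  [5, 6, 5, 3, 1, 0, 2, 1, 0, 2, 0, 8, 6, 5, 7],
  [4, 4, 4],
  [2, 0, 2, 4, 7, 5, 7, 5, 7, 5, 7, 5, 4, 0, 2, 0, 2, 0],
  [9, 6, 6, 5, 6, 4, 1, 0, 1, 1],
  [4, 0, 9, 5],
  [9, 6, 4, 1],
  [3, 4, 3, 4]]

/-- The relations of case B. -/
def relsB : List (List ℕ) := [
  [0, 0],
  [1, 1, 1],
  [2, 2],
  [2, 1, 2, 1],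
  [0, 6, 6, 0, 1, 0, 1],
  [0, 1, 2, 0, 1, 2, 0, 2, 6, 0, 2, 6],
  [3, 3, 3],
  [6, 7, 5, 6, 3, 2, 8, 5, 7, 5],
  [3, 2, 0, 2, 0, 8, 6, 7, 5, 6, 7, 5, 7, 5],
  [0, 2, 0, 8, 5, 7, 5, 3, 1, 0, 2, 1],
  [4, 4, 4],
  [0, 2, 0, 2, 4, 7, 5, 7, 5, 7, 5, 7, 5, 4, 0, 2, 0, 2],
  [4, 0, 2, 1, 0, 2, 1, 0, 9, 5, 6, 7, 5, 6, 7, 5],
  [2, 9, 7, 5, 7, 4, 2, 0],
  [0, 9, 5, 6, 4, 1],
  [3, 4, 3, 4]]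

end CfsgQS3.Zero
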