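import Cfsg.Agent.Lib.QS3.Table
import Cfsg.Agent.Lib.QS3.Zero.RelData
import Cfsg.Agent.Lib.Golay.Perms

/-!
Groups with an involution centraliser `Q.S₃`: the data of the type 0.
-/

set_option autoImplicit false
set_option maxRecDepth 100000

namespace CfsgQS3.Zero

open Equiv CfsgGolay Cfsg

/-- The generators of the centraliser. -/
def hGens : List ℕ := [60, 2, 1]

/-- Words for the codes in the generators. -/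
def hWords : List (List ℕ) := [
  [],
  [2],
  [1],
  [1, 2],
  [1, 1],
  [2, 1],
  [2, 0, 2, 0],
  [2, 0, 2, 0, 2],
  [2, 0, 2, 0, 1],
  [2, 0, 2, 0, 1, 2],
  [2, 0, 2, 0, 1, 1],
  [2, 0, 2, 0, 2, 1],
  [1, 2, 0, 2, 0, 1, 1],
  [1, 2, 0, 2, 0, 2, 1],
  [1, 2, 0, 2, 0],
  [1, 2, 0, 2, 0, 2],
  [1, 2, 0, 2, 0, 1],
  [1, 2, 0, 2, 0, 1, 2],
  [2, 1, 0, 2, 0, 1],
  [2, 1, 0, 2, 0, 1, 2],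
  [2, 1, 0, 2, 0, 1, 1],
  [2, 1, 0, 2, 0, 2, 1],
  [2, 1, 0, 2, 0],
  [2, 1, 0, 2, 0, 2],
  [0, 2, 0, 2, 0, 2, 0, 2],
  [0, 2, 0, 2, 0, 2, 0],
  [0, 2, 0, 2, 0, 2, 0, 2, 1],
  [1, 0, 2, 0, 2, 0, 2, 0],
  [0, 2, 0, 2, 0, 2, 0, 1, 2],
  [0, 2, 0, 2, 0, 2, 0, 1],
  [0, 2, 0, 2],
  [0, 2, 0],
  [0, 2, 0, 2, 1],
  [0, 2, 0, 1, 1],
  [0, 2, 0, 1, 2],
  [0, 2, 0, 1],
  [1, 0, 2, 0, 1, 2],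
  [1, 0, 2, 0, 1],
  [1, 0, 2, 0, 2],
  [1, 0, 2, 0],
  [1, 0, 2, 0, 2, 1],
  [1, 0, 2, 0, 1, 1],
  [1, 1, 0, 2, 0, 2, 1],
  [0, 1, 0, 2, 0, 1, 0],
  [0, 2, 1, 0, 1, 2, 0],
  [1, 1, 0, 2, 0, 1],
  [1, 1, 0, 2, 0, 2],
  [1, 1, 0, 2, 0],
  [0, 1, 0, 2, 0, 1, 2],
  [0, 1, 0, 2, 0, 1],
  [0, 1, 0, 2, 0, 2],
  [0, 1, 0, 2, 0],
  [0, 1, 0, 2, 0, 2, 1],
  [0, 1, 0, 2, 0, 1, 1],
  [0, 2, 1, 0, 2, 0, 1],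
  [0, 2, 1, 0, 2, 0, 1, 2],
  [0, 2, 1, 0, 2, 0, 1, 1],
  [2, 0, 2, 1, 0, 2, 0],
  [0, 2, 1, 0, 2, 0],
  [0, 2, 1, 0, 2, 0, 2],
  [0],
  [0, 2],
  [0, 1],
  [0, 1, 2],
  [0, 1, 1],
  [0, 2, 1],
  [2, 0, 2],
  [2, 0],
  [2, 0, 2, 1],
  [2, 0, 1, 1],
  [2, 0, 1, 2],
  [2, 0, 1],
  [1, 2, 0, 2, 1, 0, 1],
  [0, 1, 2, 0, 2, 0, 2, 1],
  [0, 1, 2, 0, 2, 0],
  [0, 1, 2, 0, 2, 0, 2],
  [1, 2, 0, 2, 1, 0],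
  [1, 2, 0, 2, 1, 0, 2],
  [1, 0, 1, 2, 0, 2, 1],
  [1, 0, 2, 0, 1, 0],
  [2, 1, 0, 1, 2, 0],
  [1, 0, 1, 2, 0, 1],
  [1, 0, 1, 2, 0, 2],
  [1, 0, 1, 2, 0],
  [2, 0, 2, 0, 2, 0, 2],
  [2, 0, 2, 0, 2, 0],
  [2, 0, 2, 0, 2, 0, 2, 1],
  [2, 0, 2, 0, 2, 0, 1, 1],
  [2, 0, 2, 0, 2, 0, 1, 2],
  [2, 0, 2, 0, 2, 0, 1],
  [0, 2, 0, 2, 0],
  [0, 2, 0, 2, 0, 2],
  [0, 2, 0, 2, 0, 1],
  [0, 2, 0, 2, 0, 1, 2],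
  [0, 2, 0, 2, 0, 1, 1],
  [0, 2, 0, 2, 0, 2, 1],
  [0, 2, 1, 0, 2, 1],
  [0, 1, 2, 0, 1, 0],
  [0, 2, 1, 0, 1, 2],
  [0, 2, 1, 0, 1],
  [0, 2, 1, 0, 2],
  [0, 2, 1, 0],
  [1, 2, 0, 1, 2],
  [1, 2, 0, 1],
  [1, 2, 0, 2],
  [1, 2, 0],
  [1, 2, 0, 2, 1],
  [2, 0, 1, 0],
  [1, 0, 2, 1, 0, 2, 0],
  [0, 2, 0, 2, 1, 0, 2, 1],
  [0, 2, 0, 2, 1, 0],
  [0, 2, 0, 2, 1, 0, 2],
  [0, 2, 0, 2, 1, 0, 1],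
  [0, 2, 0, 2, 1, 0, 1, 2],
  [1, 0, 1, 1],
  [1, 0, 2, 1],
  [1, 0],
  [1, 0, 2],
  [1, 0, 1],
  [1, 0, 1, 2],
  [2, 1, 0, 2, 1, 0],
  [2, 1, 0, 2, 1, 0, 2],
  [2, 1, 0, 2, 1, 0, 1],
  [2, 0, 2, 0, 1, 2, 0],
  [1, 0, 1, 2, 0, 2, 0],
  [1, 0, 1, 2, 0, 2, 0, 2],
  [1, 0, 2, 0, 2, 0, 1, 1],
  [1, 0, 2, 0, 2, 0, 2, 1],
  [1, 0, 2, 0, 2, 0],
  [1, 0, 2, 0, 2, 0, 2],
  [1, 0, 2, 0, 2, 0, 1],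
  [0, 2, 0, 2, 0, 2, 1, 0],
  [2, 0, 1, 2, 0, 1],
  [0, 1, 0, 2, 1, 0],
  [2, 0, 2, 0, 1, 0],
  [1, 1, 0, 2, 0, 1, 0],
  [2, 0, 1, 2, 0],
  [2, 0, 1, 2, 0, 2],
  [1, 2, 0, 2, 0, 2, 0, 1, 2],
  [1, 2, 0, 2, 0, 2, 0, 1],
  [1, 2, 0, 2, 0, 2, 0, 2],
  [1, 2, 0, 2, 0, 2, 0],
  [0, 2, 1, 0, 2, 0, 2, 0, 2],
  [0, 2, 1, 0, 2, 0, 2, 0],
  [1, 0, 2, 1, 0, 2],
  [1, 0, 2, 1, 0],
  [0, 2, 0, 2, 0, 1, 0],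
  [1, 0, 1, 2, 0, 1, 0],
  [0, 2, 0, 1, 2, 0],
  [1, 0, 2, 1, 0, 1],
  [1, 1, 0, 1],
  [0, 1, 0, 2, 1],
  [0, 1, 0],
  [0, 1, 0, 2],
  [1, 1, 0],
  [1, 1, 0, 2],
  [2, 1, 0, 2, 1],
  [1, 2, 0, 1, 0],
  [2, 1, 0, 1, 2],
  [2, 1, 0, 1],
  [2, 1, 0, 2],
  [2, 1, 0],
  [1, 0, 2, 0, 2, 1, 0, 1],
  [2, 1, 0, 2, 1, 0, 2, 0],
  [0, 1, 0, 2, 0, 2, 0],
  [0, 1, 0, 2, 0, 2, 0, 2],
  [1, 0, 2, 0, 2, 1, 0],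
  [2, 0, 2, 0, 2, 1, 0],
  [2, 0, 1, 2, 0, 1, 0],
  [2, 0, 2, 1, 0, 2, 1],
  [2, 0, 2, 1, 0],
  [2, 0, 2, 1, 0, 2],
  [2, 0, 2, 1, 0, 1],
  [2, 0, 2, 1, 0, 1, 2],
  [2, 1, 0, 2, 0, 2, 0, 2, 1],
  [0, 1, 2, 0, 2, 0, 2, 0, 1],
  [0, 1, 2, 0, 2, 0, 2, 0, 2],
  [0, 1, 2, 0, 2, 0, 2, 0],
  [2, 1, 0, 2, 0, 2, 0, 2],
  [2, 1, 0, 2, 0, 2, 0],
  [0, 2, 1, 0, 2, 1, 0],
  [0, 2, 1, 0, 2, 1, 0, 2],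
  [0, 2, 1, 0, 2, 1, 0, 1],
  [0, 2, 0, 2, 0, 1, 2, 0],
  [1, 1, 0, 2, 0, 2, 0],
  [1, 1, 0, 2, 0, 2, 0, 2],
  [0, 1, 2, 0, 1, 2],
  [0, 1, 2, 0, 1],
  [0, 1, 2, 0, 2],
  [0, 1, 2, 0],
  [0, 1, 2, 0, 2, 1],
  [0, 2, 0, 1, 0]]

/-- The parameters of a case: images of the generators, the fixed element, its partner and an element of order three. -/
structure Par where
  /-- The images. -/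
  ys : List ℕ
  /-- The fixed element. -/
  t : ℕ
  /-- The partner. -/
  a : ℕ
  /-- The element of order three. -/
  x : ℕ

/-- The parameters of case A. -/
def parA : Par := ⟨[108, 187, 49], 114, 60, 2⟩

/-- The parameters of case B. -/
def parB : Par := ⟨[108, 109, 31], 180, 66, 116⟩

/-- For each action of the larger fusion pattern, a case and the images of the generators under an automorphism. -/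
def normTab : List (List ℕ × Bool × List ℕ) := [
  ([108, 109, 31], false, [60, 2, 1]),
  ([108, 133, 73], false, [66, 4, 25]),
  ([108, 163, 7], true, [66, 4, 25]),
  ([108, 187, 49], true, [60, 2, 1]),
  ([132, 109, 7], false, [66, 100, 25]),
  ([132, 133, 49], false, [60, 110, 79]),
  ([132, 163, 31], true, [60, 110, 79]),
  ([132, 187, 73], true, [66, 100, 25]),
  ([162, 109, 49], false, [66, 4, 1]),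
  ([162, 133, 7], false, [60, 2, 25]),
  ([162, 163, 73], true, [60, 2, 25]),
  ([162, 187, 31], true, [66, 4, 1]),
  ([186, 109, 73], false, [60, 110, 55]),
  ([186, 133, 31], false, [66, 100, 1]),
  ([186, 163, 49], true, [66, 100, 1]),
  ([186, 187, 7], true, [60, 110, 55])]

/-- The images of the five letters. -/
def p12 (i : ℕ) : Perm GolayPt :=
  [(⟨fun q => pt ([1, 0, 3, 2, 16, 23, 13, 19, 12, 18, 15, 20, 8, 6, 17, 10, 4, 14, 9, 7, 11, 22, 21, 5].getD (idx q) 0), fun q => pt ([1, 0, 3, 2, 16, 23, 13, 19, 12, 18, 15, 20, 8, 6, 17, 10, 4, 14, 9, 7, 11, 22, 21, 5].getD (idx q) 0), by decide, by decide⟩ : Perm GolayPt),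
   (⟨fun q => pt ([0, 3, 1, 2, 4, 17, 13, 7, 9, 18, 10, 20, 12, 16, 14, 11, 6, 23, 8, 22, 15, 19, 21, 5].getD (idx q) 0), fun q => pt ([0, 2, 3, 1, 4, 23, 16, 7, 18, 8, 10, 15, 12, 6, 14, 20, 13, 5, 9, 21, 11, 22, 19, 17].getD (idx q) 0), by decide, by decide⟩ : Perm GolayPt),
   (⟨fun q => pt ([0, 1, 3, 2, 12, 5, 6, 7, 18, 9, 10, 22, 4, 16, 14, 21, 13, 23, 8, 20, 19, 15, 11, 17].getD (idx q) 0), fun q => pt ([0, 1, 3, 2, 12, 5, 6, 7, 18, 9, 10, 22, 4, 16, 14, 21, 13, 23, 8, 20, 19, 15, 11, 17].getD (idx q) 0), by decide, by decide⟩ : Perm GolayPt),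
   (⟨fun q => pt ([12, 4, 6, 9, 16, 7, 13, 21, 0, 18, 20, 15, 8, 2, 10, 23, 1, 22, 3, 17, 14, 5, 19, 11].getD (idx q) 0), fun q => pt ([8, 16, 13, 18, 1, 21, 2, 5, 12, 3, 14, 23, 0, 6, 20, 11, 4, 19, 9, 22, 10, 7, 17, 15].getD (idx q) 0), by decide, by decide⟩ : Perm GolayPt),
   (⟨fun q => pt ([4, 16, 13, 6, 12, 21, 9, 10, 1, 3, 14, 23, 0, 18, 7, 17, 8, 19, 2, 15, 5, 20, 11, 22].getD (idx q) 0), fun q => pt ([12, 8, 18, 9, 0, 20, 3, 14, 16, 6, 7, 22, 4, 2, 10, 19, 1, 15, 13, 17, 21, 5, 23, 11].getD (idx q) 0), by decide, by decide⟩ : Perm GolayPt)].getD i 1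

end CfsgQS3.Zero
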