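import Cfsg.Agent.Lib.Golay.Mathieu
import Mathlib.GroupTheory.Index

/-!
Groups with an involution centraliser `Q.S₃`: subgroups of small index in the Mathieu group of degree twelve.
-/

set_option autoImplicit false

namespace CfsgQS3.Zero

open Cfsg

/-- A subgroup of index less than eleven of `M12` is everything. -/
theorem m12_index {K : Subgroup ↥Spor.M12} (h : K.index < 11) : K = ⊤ := by
  have hi : K.index ≠ 0 := Subgroup.index_ne_zero_of_finite
  by_contra hK
  haveI := CfsgGolay.isSimple_sporM12
  rcases K.normalCore_normal.eq_bot_or_eq_top with hb | ht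
  · have hinj : Function.Injective (MulAction.toPermHom ↥Spor.M12 (_ ⧸ K)) := by
      rw [← MonoidHom.ker_eq_bot_iff, ← Subgroup.normalCore_eq_ker, hb]
    have h1 := Subgroup.card_dvd_of_injective _ hinj
    rw [CfsgGolay.card_sporM12, Nat.card_perm, ← Subgroup.index_eq_card] at h1
    have h2 : (11 : ℕ) ∣ Nat.factorial K.index := (by norm_num : (11 : ℕ) ∣ 95040).trans h1
    exact absurd ((Nat.Prime.dvd_factorial (by norm_num)).1 h2) (by omega)
  · exact hK (top_le_iff.1 (ht ▸ K.normalCore_le))

end CfsgQS3.Zero
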