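import Cfsg.Agent.Lib.QS3.Zero.Rel
import Cfsg.Agent.Lib.QS3.Zero.Index
import Cfsg.Agent.Lib.QS3.Zero.Cert.AMain

/-!
Groups with an involution centraliser `Q.S₃`: the five letters generate a Mathieu group of degree twelve.
-/

set_option autoImplicit false
set_option maxRecDepth 100000
set_option linter.unusedSectionVars false

namespace CfsgQS3.Zero

open Equiv Cfsg CfsgGolay
open scoped Pointwise

/-- The images of the letters. -/
def q12 (i : ℕ) : Perm GolayPt := if i < 5 then p12 i else (p12 (i - 5))⁻¹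

/-- The image of a code. -/
def psi12 (x : ℕ) : Perm GolayPt := wordVal p12 (hWords.getD x [])

/-- The packed codes of the images. -/
def pcodes : List ℕ := [235858092014725848871085848532159489, 235742061483406767849477376128910432,
  721064549862662597311266359538158624, 481806782839919971316375427291060364, 928941295532696057910029549322843652]

theorem p12_M12 : ∀ i < 5, Repr (pcodes.getD i 0) (p12 i) ∧ gensKept (pcodes.getD i 0) = true ∧
    pmask (pcodes.getD i 0) 340831 = 340831 := by decide +kernel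

theorem mem_M12 {i : ℕ} (hi : i < 5) : p12 i ∈ Spor.M12 := by
  obtain ⟨hr, hk, hm⟩ := p12_M12 i hi
  refine ⟨mem_M24_of_gensKept hr hk, ?_⟩
  show p12 i • Spor.squareDodecad = Spor.squareDodecad
  rw [Spor.squareDodecad, squares_eq, Finset.smul_finset_def]
  exact (hr.toSet_pmask 340831).symm.trans (by rw [hm])

theorem q12_rels : (relsA.all fun w => decide (wordVal q12 w = 1)) = true := by decide +kernel

theorem psi12_step : (codes.all fun x => [0, 1, 2].all fun i =>
    decide (psi12 (mmul 0 x (hGens.getD i 0)) = psi12 x * p12 i)) = true := by decide +kernel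

theorem psi12_facts : psi12 0 = 1 ∧ (codes.all fun x => decide (psi12 x = 1 → x = 0)) = true ∧ psi12 60 = p12 0 ∧
    psi12 2 = p12 1 ∧ psi12 1 = p12 2 := by decide +kernel

theorem p12_orders : wordVal p12 [1, 3, 4] ^ 11 = 1 ∧ wordVal p12 [1, 3, 4] ≠ 1 ∧ wordVal p12 [2, 3, 4] ^ 5 = 1 ∧
    wordVal p12 [2, 3, 4] ≠ 1 := by decide +kernel

variable {G : Type*} [Group G]

/-- The subgroup generated by the five pairs. -/
def pairK (φ : ℕ → G) (α Y : G) : Subgroup (G × Perm GolayPt) :=
  Subgroup.closure ((fun i => (letters φ α Y i, q12 i)) '' Set.Iio 5)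

end CfsgQS3.Zero

namespace CfsgQS3.Dat

open Zero Equiv Cfsg CfsgGolay

variable {G : Type*} [Group G] {s : G} {φ : ℕ → G} (D : Dat s 0 φ)
include D

theorem psi12_mul : ∀ x < 192, ∀ y < 192, psi12 (mmul 0 x y) = psi12 x * psi12 y := by
  intro x hx y hy
  have hw := all_codes hWords_ok hy
  simp only [Bool.and_eq_true, beq_iff_eq, List.all_eq_true, decide_eq_true_eq] at hw
  obtain ⟨e, hl⟩ := hw
  have hg : ∀ i < 3, hGens.getD i 0 < 192 := by decide
  have key : ∀ l : List ℕ, (∀ i ∈ l, i < 3) → ∀ x < 192,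
      psi12 (mmul 0 x (mword 0 (l.map fun i => hGens.getD i 0))) = psi12 x * wordVal p12 l := by
    intro l
    induction l using List.reverseRecOn with
    | nil =>
      intro _ x hx
      have hx0 : mmul 0 x (mword 0 []) = x := (minv_ok 0 (by norm_num) x hx).2.2.2.1
      simp only [List.map_nil, wordVal, List.prod_nil, mul_one, hx0]
    | append_singleton l i ih =>
      intro hl x hx
      have hi := hl i (by simp)
      have hl' := fun j hj => hl j (List.mem_append_left _ hj)
      have hA : mword 0 (l.map fun i => hGens.getD i 0) < 192 := (D.mword_eq _ fun v hv => by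
        obtain ⟨j, hj, rfl⟩ := List.mem_map.1 hv; exact hg j (hl' j hj)).2
      have e : mword 0 ((l ++ [i]).map fun i => hGens.getD i 0) =
          mmul 0 (mword 0 (l.map fun i => hGens.getD i 0)) (hGens.getD i 0) := by simp [mword]
      rw [e, D.inj _ (D.lt_mul hx (D.lt_mul hA (hg i hi))) _ (D.lt_mul (D.lt_mul hx hA) (hg i hi))
        (by rw [D.mul _ hx _ (D.lt_mul hA (hg i hi)), D.mul _ hA _ (hg i hi), D.mul _ (D.lt_mul hx hA) _ (hg i hi),
          D.mul _ hx _ hA, mul_assoc])]
      have h := all_codes psi12_step (D.lt_mul hx hA)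
      simp only [List.all_eq_true, decide_eq_true_eq] at h
      rw [h i (by simp only [List.mem_cons, List.not_mem_nil, or_false]; omega), ih hl' x hx]
      simp [wordVal, mul_assoc]
  have h1 := key _ hl x hx
  rw [e] at h1
  exact h1

/-- The pairs of codes. -/
def pairH0 : Subgroup (G × Perm GolayPt) where
  carrier := {p | ∃ x < 192, (φ x, psi12 x) = p}
  one_mem' := ⟨0, by norm_num, by rw [D.one, psi12_facts.1]; rfl⟩
  mul_mem' := by
    rintro _ _ ⟨x, hx, rfl⟩ ⟨y, hy, rfl⟩
    exact ⟨mmul 0 x y, D.lt_mul hx hy, by rw [D.mul _ hx _ hy, D.psi12_mul _ hx _ hy]; rfl⟩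
  inv_mem' := by
    rintro _ ⟨x, hx, rfl⟩
    refine ⟨minv 0 x, D.lt_inv hx, Prod.ext (D.inv hx) (eq_inv_of_mul_eq_one_left ?_)⟩
    rw [← D.psi12_mul _ (D.lt_inv hx) _ hx, (minv_ok 0 (by norm_num) x hx).1, psi12_facts.1]

theorem pairH0_card : Finite (D.pairH0) ∧ Nat.card D.pairH0 ≤ 192 := by
  have hs : Function.Surjective (fun x : Fin 192 => (⟨(φ x, psi12 x), x, x.2, rfl⟩ : D.pairH0)) := by
    rintro ⟨_, x, hx, rfl⟩
    exact ⟨⟨x, hx⟩, rfl⟩
  exact ⟨Finite.of_surjective _ hs, (Nat.card_le_card_of_surjective _ hs).trans (le_of_eq (Nat.card_fin 192))⟩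

theorem code_word {α Y : G} {x : ℕ} (hx : x < 192) :
    φ x = wordVal (letters φ α Y) (hWords.getD x []) ∧ psi12 x = wordVal q12 (hWords.getD x []) ∧
      ∀ i ∈ hWords.getD x [], i < 3 := by
  have h := all_codes hWords_ok hx
  simp only [Bool.and_eq_true, beq_iff_eq, List.all_eq_true, decide_eq_true_eq] at h
  obtain ⟨hx', hlt⟩ := h
  refine ⟨?_, ?_, hlt⟩
  · obtain ⟨e, -⟩ := D.mword_eq ((hWords.getD x []).map fun i => hGens.getD i 0) (fun v hv => by
      obtain ⟨i, hi, rfl⟩ := List.mem_map.1 hv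
      exact (by decide : ∀ i < 3, hGens.getD i 0 < 192) i (hlt i hi))
    rw [hx', List.map_map] at e
    refine e.trans (congrArg List.prod (List.map_congr_left fun i hi => ?_))
    have := hlt i hi
    interval_cases i <;> rfl
  · refine congrArg List.prod (List.map_congr_left fun i hi => ?_)
    have := hlt i hi
    simp [q12, show i < 5 by omega]

/-- Representatives of cosets exhaust the orbit of the pairs. -/
theorem pairK0_card {α Y : G} (hrel : ∀ w ∈ relsA, wordVal (letters φ α Y) w = 1) :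
    Finite (Zero.pairK φ α Y) ∧ Nat.card (Zero.pairK φ α Y) ≤ 95040 ∧ D.pairH0 ≤ Zero.pairK φ α Y := by
  let g : ℕ → G × Perm GolayPt := fun i => (letters φ α Y i, q12 i)
  let p : (G × Perm GolayPt) ⧸ D.pairH0 := ((1 : G × Perm GolayPt) : _ ⧸ D.pairH0)
  have hw : ∀ w : List ℕ, wordVal g w = (wordVal (letters φ α Y) w, wordVal q12 w) := by
    intro w
    induction w with
    | nil => rfl
    | cons i w ih => simp only [wordVal, List.map_cons, List.prod_cons] at ih ⊢; rw [ih]; rfl
  have hH : CosetData relsA 3 g p := by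
    refine ⟨fun i hi => ?_, fun w hwm => ?_, fun {i} hi => ?_⟩
    · interval_cases i <;> simp [g, invLetter, letters, q12]
    · rw [hw, hrel w hwm, decide_eq_true_iff.1 (List.all_eq_true.1 q12_rels w hwm)]; rfl
    · show g i • p = p
      rw [MulAction.Quotient.smul_coe, smul_eq_mul, mul_one, QuotientGroup.eq, mul_one]
      refine D.pairH0.inv_mem ?_
      obtain ⟨-, -, e0, e1, e2⟩ := psi12_facts
      interval_cases i
      · exact ⟨60, by norm_num, by rw [e0]; rfl⟩
      · exact ⟨2, by norm_num, by rw [e1]; rfl⟩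
      · exact ⟨1, by norm_num, by rw [e2]; rfl⟩
  set R := CertA.reps
  set O : Set ((G × Perm GolayPt) ⧸ D.pairH0) := (fun w => path g w p) '' {w | w ∈ R} with hO
  have hfin : O.Finite := (List.finite_toSet R).image _
  have hstep : ∀ i < 5, ∀ q ∈ O, g i • q ∈ O := by
    rintro i hi _ ⟨w, hw, rfl⟩
    obtain ⟨w', hw', e⟩ := CertA.step_all hH i hi w hw
    exact ⟨w', hw', e.symm⟩
  have key : ∀ k ∈ Zero.pairK φ α Y, ∀ q, (q ∈ O → k • q ∈ O) ∧ (q ∈ O → k⁻¹ • q ∈ O) := by
    intro k hk
    induction hk using Subgroup.closure_induction with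
    | mem a ha =>
      obtain ⟨i, hi, rfl⟩ := ha
      intro q
      refine ⟨hstep i hi q, fun hq => ?_⟩
      have hinj : Function.Injective (fun x : O => (⟨g i • (x : _ ⧸ D.pairH0), hstep i hi _ x.2⟩ : O)) :=
        fun x y e => Subtype.ext (smul_left_cancel (g i) (congrArg Subtype.val e))
      haveI := hfin.to_subtype
      obtain ⟨x, hx⟩ := Finite.injective_iff_surjective.1 hinj ⟨q, hq⟩
      have hx' : g i • (x : _ ⧸ D.pairH0) = q := congrArg Subtype.val hx
      show (g i)⁻¹ • q ∈ O
      rw [← hx', inv_smul_smul]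
      exact x.2
    | one => intro q; simp
    | mul a b _ _ ha hb =>
      intro q
      refine ⟨fun hq => ?_, fun hq => ?_⟩
      · rw [mul_smul]; exact (ha _).1 ((hb q).1 hq)
      · rw [mul_inv_rev, mul_smul]; exact (hb _).2 ((ha q).2 hq)
    | inv a _ ha => intro q; exact ⟨(ha q).2, by rw [inv_inv]; exact (ha q).1⟩
  have hp : p ∈ O := ⟨[], CertA.mem_reps (l := CertA.reps0) (by simp [CertA.repLists]) (by decide), rfl⟩
  haveI := hfin.to_subtype
  set K := Zero.pairK φ α Y
  have hsub : D.pairH0 ≤ K := by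
    rintro _ ⟨x, hx, rfl⟩
    obtain ⟨e1, e2, hlt⟩ := D.code_word (α := α) (Y := Y) hx
    rw [e1, e2, ← hw]
    refine Subgroup.list_prod_mem _ fun a ha => ?_
    obtain ⟨i, hi, rfl⟩ := List.mem_map.1 ha
    exact Subgroup.subset_closure ⟨i, lt_trans (hlt i hi) (by norm_num), rfl⟩
  choose f hf using fun q : K ⧸ D.pairH0.subgroupOf K =>
    (show ∃ o : O, ((q.out : K) : G × Perm GolayPt) • p = o from ⟨⟨_, (key _ q.out.2 p).1 hp⟩, rfl⟩)
  have hinj : Function.Injective f := by
    intro a b h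
    have e : ((a.out : K) : G × Perm GolayPt) • p = ((b.out : K) : G × Perm GolayPt) • p := by rw [hf a, hf b, h]
    rw [MulAction.Quotient.smul_coe, MulAction.Quotient.smul_coe, smul_eq_mul, smul_eq_mul, mul_one, mul_one,
      QuotientGroup.eq] at e
    rw [← QuotientGroup.out_eq' a, ← QuotientGroup.out_eq' b, QuotientGroup.eq, Subgroup.mem_subgroupOf]
    exact e
  have hOc : Nat.card O ≤ 495 := by
    have hlen : R.length = 495 := by decide +kernel
    have hs : Function.Surjective (fun i : Fin R.length => (⟨path g R[i] p, R[i], List.getElem_mem i.2, rfl⟩ : O)) := by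
      rintro ⟨_, w, hw, rfl⟩
      obtain ⟨i, hi, rfl⟩ := List.getElem_of_mem hw
      exact ⟨⟨i, hi⟩, rfl⟩
    exact (Nat.card_le_card_of_surjective _ hs).trans (le_of_eq ((Nat.card_fin _).trans hlen))
  haveI := D.pairH0_card.1
  haveI : Finite (K ⧸ D.pairH0.subgroupOf K) := Finite.of_injective f hinj
  haveI : Finite (D.pairH0.subgroupOf K) := Finite.of_equiv _ (Subgroup.subgroupOfEquivOfLe hsub).symm.toEquiv
  have hc := Subgroup.card_eq_card_quotient_mul_card_subgroup (D.pairH0.subgroupOf K)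
  refine ⟨Nat.finite_of_card_ne_zero (hc ▸ (Nat.mul_pos Nat.card_pos Nat.card_pos).ne'), ?_, hsub⟩
  rw [hc, Nat.card_congr (Subgroup.subgroupOfEquivOfLe hsub).toEquiv]
  exact (Nat.mul_le_mul ((Nat.card_le_card_of_injective f hinj).trans hOc) D.pairH0_card.2).trans (by norm_num)

/-- The centraliser and the two elements generate a Mathieu group of degree twelve. -/
theorem exists_M12_embedding {α Y : G} (hα : α * s * α⁻¹ = φ 54)
    (hrel : ∀ w ∈ relsA, wordVal (letters φ α Y) w = 1) :
    ∃ ι : ↥Spor.M12 →* G, Function.Injective ι ∧ (∀ x < 192, ∃ a, ι a = φ x) ∧ α ∈ ι.range ∧ Y ∈ ι.range := by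
  obtain ⟨hfin, hle, hsub⟩ := D.pairK0_card hrel
  haveI := hfin
  set K := Zero.pairK φ α Y with hK
  have hgen : ∀ i < 5, (letters φ α Y i, q12 i) ∈ K := fun i hi => Subgroup.subset_closure ⟨i, hi, rfl⟩
  have hM : ∀ k : K, (k : G × Perm GolayPt).2 ∈ Spor.M12 := by
    rintro ⟨k, hk⟩
    induction hk using Subgroup.closure_induction with
    | mem a ha =>
      obtain ⟨i, hi, rfl⟩ := ha
      have h5 : i < 5 := hi
      simpa [q12, h5] using mem_M12 h5
    | one => exact one_mem _
    | mul a b _ _ ha hb => exact mul_mem ha hb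
    | inv a _ ha => exact inv_mem ha
  let π : K →* ↥Spor.M12 :=
    { toFun := fun k => ⟨(k : G × Perm GolayPt).2, hM k⟩
      map_one' := rfl
      map_mul' := fun _ _ => rfl }
  have hword : ∀ w : List ℕ, (∀ i ∈ w, i < 5) → ∃ k : K, (π k : Perm GolayPt) = wordVal p12 w := by
    intro w
    induction w with
    | nil => intro _; exact ⟨1, rfl⟩
    | cons i w ih =>
      intro h
      obtain ⟨k, hk⟩ := ih fun j hj => h j (List.mem_cons_of_mem _ hj)
      refine ⟨⟨_, hgen i (h i List.mem_cons_self)⟩ * k, ?_⟩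
      show q12 i * (k : G × Perm GolayPt).2 = _
      simp only [wordVal, List.map_cons, List.prod_cons, q12, h i List.mem_cons_self, if_true]
      exact congrArg (p12 i * ·) hk
  haveI := CfsgGolay.isSimple_sporM12
  have hsurj : Function.Surjective π := by
    rw [← MonoidHom.range_eq_top]
    refine m12_index ?_
    set R := π.range
    have h192 : 192 ∣ Nat.card R := by
      let V : Subgroup ↥Spor.M12 := (D.pairH0.map (MonoidHom.snd G (Perm GolayPt))).subgroupOf Spor.M12
      have hV : V ≤ R := by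
        rintro v ⟨_, ⟨x, hx, rfl⟩, e⟩
        exact ⟨⟨_, hsub ⟨x, hx, rfl⟩⟩, Subtype.ext e⟩
      have hval : ∀ x < 192, psi12 x ∈ Spor.M12 := fun x hx => hM ⟨_, hsub ⟨x, hx, rfl⟩⟩
      have hcard : Nat.card V = 192 := by
        refine (Nat.card_congr (Equiv.ofBijective (fun x : Fin 192 =>
          (⟨⟨psi12 x, hval x x.2⟩, _, ⟨x, x.2, rfl⟩, rfl⟩ : V)) ⟨?_, ?_⟩)).symm.trans (Nat.card_fin 192)
        · intro x y e
          have e' : psi12 x = psi12 y := congrArg (fun v : V => ((v : ↥Spor.M12) : Perm GolayPt)) e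
          have h := all_codes psi12_facts.2.1 (D.lt_mul (D.lt_inv x.2) y.2)
          simp only [decide_eq_true_eq] at h
          have h0 := h (by rw [D.psi12_mul _ (D.lt_inv x.2) _ y.2, ← e', ← D.psi12_mul _ (D.lt_inv x.2) _ x.2,
            (minv_ok 0 (by norm_num) x x.2).1, psi12_facts.1])
          refine Fin.ext (D.inj _ x.2 _ y.2 (inv_inj.1 ?_))
          have := congrArg φ h0
          rw [D.mul _ (D.lt_inv x.2) _ y.2, D.inv x.2, D.one] at this
          exact eq_inv_of_mul_eq_one_left this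
        · rintro ⟨v, _, ⟨x, hx, rfl⟩, e⟩
          exact ⟨⟨x, hx⟩, Subtype.ext (Subtype.ext e)⟩
      rw [← hcard]
      exact Subgroup.card_dvd_of_le hV
    obtain ⟨k11, h11⟩ := hword [1, 3, 4] (by decide)
    obtain ⟨k5, h5⟩ := hword [2, 3, 4] (by decide)
    obtain ⟨a11, n11, a5, n5⟩ := p12_orders
    have o11 : orderOf (π k11) = 11 := by
      haveI : Fact (Nat.Prime 11) := ⟨by norm_num⟩
      exact orderOf_eq_prime (Subtype.ext (by simpa [h11] using a11)) fun h => n11 (by
        simpa [h11] using congrArg Subtype.val h)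
    have o5 : orderOf (π k5) = 5 := by
      haveI : Fact (Nat.Prime 5) := ⟨by norm_num⟩
      exact orderOf_eq_prime (Subtype.ext (by simpa [h5] using a5)) fun h => n5 (by
        simpa [h5] using congrArg Subtype.val h)
    have d11 := Subgroup.orderOf_dvd_natCard R (x := π k11) ⟨k11, rfl⟩
    have d5 := Subgroup.orderOf_dvd_natCard R (x := π k5) ⟨k5, rfl⟩
    rw [o11] at d11
    rw [o5] at d5
    have hd : 10560 ∣ Nat.card R :=
      Nat.Coprime.mul_dvd_of_dvd_of_dvd (show Nat.Coprime 55 192 by norm_num)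
        (Nat.Coprime.mul_dvd_of_dvd_of_dvd (show Nat.Coprime 5 11 by norm_num) d5 d11) h192
    have hmul := R.card_mul_index
    rw [CfsgGolay.card_sporM12] at hmul
    obtain ⟨m, hm⟩ := hd
    rw [hm] at hmul
    have hpos : 0 < m := Nat.pos_of_ne_zero fun h => by simp [h] at hmul
    nlinarith
  have hinj : Function.Injective π := by
    refine ((Nat.bijective_iff_surjective_and_card π).2 ⟨hsurj, ?_⟩).1
    exact le_antisymm (hle.trans CfsgGolay.card_sporM12.ge) (Nat.card_le_card_of_surjective _ hsurj)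
  let e := MulEquiv.ofBijective π ⟨hinj, hsurj⟩
  let ι : ↥Spor.M12 →* G := (MonoidHom.fst G (Perm GolayPt)).comp (K.subtype.comp e.symm.toMonoidHom)
  have hι : ∀ k : K, ι (π k) = (k : G × Perm GolayPt).1 := by
    intro k
    show ((e.symm (e k) : K) : G × Perm GolayPt).1 = _
    rw [e.symm_apply_apply]
  refine ⟨ι, ?_, fun x hx => ⟨π ⟨_, hsub ⟨x, hx, rfl⟩⟩, hι _⟩, ⟨π ⟨_, hgen 3 (by norm_num)⟩, hι _⟩,
    ⟨π ⟨_, hgen 4 (by norm_num)⟩, hι _⟩⟩
  rw [← MonoidHom.ker_eq_bot_iff]
  refine ((MonoidHom.normal_ker ι).eq_bot_or_eq_top).resolve_right fun htop => ?_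
  have h1 := hι ⟨_, hgen 3 (by norm_num)⟩
  rw [MonoidHom.mem_ker.1 (htop ▸ Subgroup.mem_top _)] at h1
  have h2 : φ 24 = φ 54 := by
    rw [← hα, show α = 1 from h1.symm, D.zc]; group
  exact absurd (D.inj _ (by norm_num) _ (by norm_num) h2) (by norm_num)

end CfsgQS3.Dat
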