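import Cfsg.Agent.Lib.QS3.Zero.Five
import Cfsg.Agent.Lib.QS3.Zero.M12
import Cfsg.Agent.Lib.QS3.Zero.Cert.BMain

/-!
Groups with an involution centraliser `Q.S₃`: the type 0.
-/

set_option autoImplicit false
set_option maxRecDepth 100000
set_option linter.unusedSectionVars false

namespace CfsgQS3.Zero

namespace Std

variable {G : Type*} [Group G] {s : G} {φ : ℕ → G}

/-- The second case does not occur. -/
theorem not_B {α Y : G} (S : Std s φ parB α) (hY : YRel s φ parB α Y) : False := by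
  have hD := S.dat
  have hP := S.act.mem
  let g := letters φ α Y
  let p : G ⧸ Subgroup.centralizer ({s} : Set G) := ((1 : G) : G ⧸ _)
  have hH : CosetData relsB 3 g p := by
    refine ⟨fun i hi => ?_, fun w hw => hD.rel_of0 hP S.act hY (List.all_eq_true.1 rels_ok.2 w hw), fun {i} hi => ?_⟩
    · interval_cases i <;> simp [g, invLetter, letters]
    · show g i • p = p
      rw [MulAction.Quotient.smul_coe, smul_eq_mul, mul_one, QuotientGroup.eq, mul_one]
      refine (Subgroup.centralizer ({s} : Set G)).inv_mem (Subgroup.mem_centralizer_singleton_iff.2 ?_)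
      interval_cases i
      · exact hD.comm_s (x := 60) (by norm_num)
      · exact hD.comm_s (x := 2) (by norm_num)
      · exact hD.comm_s (x := 1) (by norm_num)
  have h := CertB.collapse hH
  change α • p = p at h
  rw [MulAction.Quotient.smul_coe, smul_eq_mul, mul_one, QuotientGroup.eq, mul_one, inv_mem_iff,
    Subgroup.mem_centralizer_singleton_iff] at h
  have e : φ 24 = φ 54 := by
    rw [hD.zc, show φ 54 = φ row0.r from rfl, ← S.act.conj_s, h, mul_inv_cancel_right]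
  exact absurd (hD.inj _ (by norm_num) _ (by norm_num) e) (by norm_num)

variable {P : Par} {α : G} (S : Std s φ P α)
include S

/-- The classes of involutions inside a subgroup containing the centraliser of `s` and the action. -/
theorem class_in {Γ : Subgroup G} (hH : ∀ x < 192, φ x ∈ Γ) (hα : α ∈ Γ) {n : ℕ} (hn : n < 192)
    (hi : isInv 0 n = true ∨ n = 24) :
    ∃ h ∈ Γ, h * φ n * h⁻¹ = s ∨ h * φ n * h⁻¹ = φ P.t := by
  have hD := S.dat
  by_cases h24 : n = 24
  · exact ⟨1, Γ.one_mem, Or.inl (by rw [h24, hD.zc]; group)⟩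
  replace hi := hi.resolve_right h24
  by_cases h12 : isTwelve n = true
  · have h := all_codes (S.all_par twelve_conj) hn
    simp only [h12, Bool.not_true, Bool.false_or, List.any_eq_true, beq_iff_eq] at h
    obtain ⟨c, hc, e⟩ := h
    exact ⟨φ c, hH _ (List.mem_range.1 hc), Or.inr (by rw [← hD.conj (List.mem_range.1 hc) hn, e])⟩
  have six : ∀ m < 192, isSix 0 m = true → ∃ h ∈ Γ, h * φ m * h⁻¹ = s := by
    intro m hm h6
    have h' := all_codes six_conj hm
    simp only [h6, Bool.not_true, Bool.false_or, List.any_eq_true, beq_iff_eq] at h'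
    obtain ⟨c, hc, rfl⟩ := h'
    refine ⟨α⁻¹ * (φ c)⁻¹, Γ.mul_mem (Γ.inv_mem hα) (Γ.inv_mem (hH _ (List.mem_range.1 hc))), ?_⟩
    rw [hD.conj (List.mem_range.1 hc) (by norm_num), show φ 54 = φ row0.r from rfl, ← S.act.conj_s]
    group
  have h := all_codes (S.all_par class_chk) hn
  simp only [hi, h12, Bool.not_true, Bool.false_or, Bool.or_false, Bool.or_eq_true, Bool.and_eq_true,
    List.any_eq_true, beq_iff_eq, List.contains_iff_mem] at h
  rcases h with ⟨-, h6⟩ | ⟨c, hc, hcen, h6⟩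
  · obtain ⟨h, hh, e⟩ := six n hn h6
    exact ⟨h, hh, Or.inl e⟩
  · have hc' := List.mem_range.1 hc
    obtain ⟨h, hh, e⟩ := six _ (fap_lt_of S.act.mem hD _) h6
    refine ⟨h * α * φ c, Γ.mul_mem (Γ.mul_mem hh hα) (hH _ hc'), Or.inl ?_⟩
    rw [← S.act.act _ hcen, hD.conj hc' hn] at e
    rw [← e]; group

/-- A subgroup with the centralisers of the two representatives is everything. -/
theorem closed [Finite G] {Γ : Subgroup G} (hH : ∀ x < 192, φ x ∈ Γ) (hα : α ∈ Γ) (hR : RSub φ P ≤ Γ) :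
    Γ = ⊤ := by
  have hD := S.dat
  haveI : Fact (Nat.Prime 2) := ⟨Nat.prime_two⟩
  have hcs : ∀ g : G, g * s = s * g → g ∈ Γ := fun g hg => by
    obtain ⟨n, hn, rfl⟩ := (hD.cent g).1 hg; exact hH n hn
  have hTle : hD.T ≤ Γ := fun g hg => by
    obtain ⟨n, hn, rfl⟩ := hD.mem_T.1 hg; exact hH n (mem_tCodes.1 hn).1
  let SΓ : Sylow 2 Γ :=
    { toSubgroup := hD.T.subgroupOf Γ
      isPGroup' := hD.isPGroup_T.comap_subtype
      is_maximal' := fun {Q} hQ hle => by
        have h1 := hD.T_maximal (P := Q.map Γ.subtype) (hQ.map _) (fun g hg => ⟨⟨g, hTle hg⟩, hle hg, rfl⟩)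
        ext x
        rw [Subgroup.mem_subgroupOf, ← h1]
        exact ⟨fun hx => ⟨x, hx, rfl⟩, fun ⟨y, hy, e⟩ => Subtype.ext e ▸ hy⟩ }
  have inΓ : ∀ x ∈ Γ, x * x = 1 → x ≠ 1 → ∃ h ∈ Γ, h * x * h⁻¹ = s ∨ h * x * h⁻¹ = φ P.t := by
    intro x hx hxx hx1
    have hp : IsPGroup 2 ↥(Subgroup.zpowers (⟨x, hx⟩ : Γ)) := IsPGroup.of_card (n := 1) (by
      rw [Nat.card_zpowers, pow_one]
      exact orderOf_eq_prime (Subtype.ext (by rw [sq]; exact hxx)) fun e => hx1 (congrArg Subtype.val e))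
    obtain ⟨Q, hQ⟩ := hp.exists_le_sylow
    obtain ⟨c, hc⟩ := MulAction.exists_smul_eq Γ Q SΓ
    have hm : c * ⟨x, hx⟩ * c⁻¹ ∈ (SΓ : Subgroup Γ) := by
      rw [← hc]
      show c * ⟨x, hx⟩ * c⁻¹ ∈ ((c • Q : Sylow 2 Γ) : Subgroup Γ)
      rw [Sylow.coe_subgroup_smul]
      exact Subgroup.smul_mem_pointwise_smul _ (MulAut.conj c) _ (hQ (Subgroup.mem_zpowers _))
    obtain ⟨n, hn, e⟩ := hD.mem_T.1 (show ((c * ⟨x, hx⟩ * c⁻¹ : Γ) : G) ∈ hD.T from hm)
    have e' : φ n = (c : G) * x * (c : G)⁻¹ := e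
    have hn' := (mem_tCodes.1 hn).1
    have hi : isInv 0 n = true ∨ n = 24 := by
      by_cases h24 : n = 24
      · exact Or.inr h24
      left
      have h1 : n ≠ 0 := fun h => hx1 (conj_eq_one_iff.1 (by rw [← e', h, hD.one]))
      have h2 : mmul 0 n n = 0 := (hD.sq_iff hn').1 (by
        rw [e', show (c : G) * x * (c : G)⁻¹ * ((c : G) * x * (c : G)⁻¹) = c * (x * x) * (c : G)⁻¹ by group, hxx]
        group)
      simp [isInv, h1, h24, h2]
    obtain ⟨h, hh, he⟩ := S.class_in hH hα hn' hi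
    exact ⟨h * c, Γ.mul_mem hh c.2, by
      rcases he with he | he
      · exact Or.inl (by rw [← he, e']; group)
      · exact Or.inr (by rw [← he, e']; group)⟩
  have hsΓ : s ∈ Γ := hcs s rfl
  have htΓ : φ P.t ∈ Γ := hH _ S.codes_P.1
  have centΓ : ∀ w ∈ Γ, w * w = 1 → w ≠ 1 → ∀ x : G, x * w = w * x → x ∈ Γ := by
    intro w hw hww hw1 x hx
    obtain ⟨h, hh, he⟩ := inΓ w hw hww hw1
    have hc : h * x * h⁻¹ * (h * w * h⁻¹) = h * w * h⁻¹ * (h * x * h⁻¹) := by
      calc h * x * h⁻¹ * (h * w * h⁻¹) = h * (x * w) * h⁻¹ := by group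
        _ = _ := by rw [hx]; group
    have hm : h * x * h⁻¹ ∈ Γ := by
      rcases he with he | he <;> rw [he] at hc
      · exact hcs _ hc
      · exact hR (Subgroup.mem_centralizer_singleton_iff.2 hc)
    have := Γ.mul_mem (Γ.mul_mem (Γ.inv_mem hh) hm) hh
    rwa [show h⁻¹ * (h * x * h⁻¹) * h = x by group] at this
  have all_invol : ∀ x : G, x * x = 1 → x ∈ Γ := by
    intro x hxx
    by_cases hx1 : x = 1
    · rw [hx1]; exact Γ.one_mem
    have key : ∀ y ∈ Γ, y * y = 1 → y ≠ 1 → ¬ IsConj x y → x ∈ Γ := by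
      intro y hy hyy hy1 hn
      rcases invol_pair hxx hyy with ⟨g, hg⟩ | ⟨w, hw1, hww, hwx, hwy⟩
      · exact absurd (isConj_iff.2 ⟨g, hg⟩) hn
      · exact centΓ w (centΓ y hy hyy hy1 w hwy) hww hw1 x hwx.symm
    by_cases hc : IsConj x s
    · exact key _ htΓ S.tt.1 S.tt.2 fun h => S.not_isConj (hc.symm.trans h)
    · exact key s hsΓ hD.s_sq hD.s_ne hc
  rw [eq_top_iff]
  intro g _
  have hgs : g * s * g⁻¹ ∈ Γ := all_invol _ (by
    rw [show g * s * g⁻¹ * (g * s * g⁻¹) = g * (s * s) * g⁻¹ by group, hD.s_sq]; group)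
  obtain ⟨h, hh, he⟩ := inΓ _ hgs (by
    rw [show g * s * g⁻¹ * (g * s * g⁻¹) = g * (s * s) * g⁻¹ by group, hD.s_sq]; group)
    (fun e => hD.s_ne (conj_eq_one_iff.1 e))
  rcases he with he | he
  · have hm := hcs (h * g) (mul_inv_eq_iff_eq_mul.1 (by
      calc h * g * s * (h * g)⁻¹ = h * (g * s * g⁻¹) * h⁻¹ := by group
        _ = s := he))
    have := Γ.mul_mem (Γ.inv_mem hh) hm
    rwa [inv_mul_cancel_left] at this
  · exact absurd (isConj_iff.2 ⟨h * g, by rw [← he]; group⟩) S.not_isConj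

end Std

/-- The two standard actions lead to the Mathieu group of degree twelve. -/
theorem std_M12 {G : Type*} [Group G] [Finite G] {s : G} {φ : ℕ → G} {P : Par} {α₀ : G} (S₀ : Std s φ P α₀) :
    Cfsg.Spor.IsoM12 G := by
  obtain ⟨α, Y, hY, S, hrel, e, -, ho3, f, hfval, ho5⟩ := S₀.exists_Y
  have hD := S.dat
  rcases S.par with rfl | rfl
  swap
  · exact (Std.not_B S hrel).elim
  obtain ⟨ι, hinj, hH, hαr, hYr⟩ := hD.exists_M12_embedding (α := α) (Y := Y) S.act.conj_s fun w hw =>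
    hD.rel_of0 S.act.mem S.act hrel (List.all_eq_true.1 rels_ok.1 w hw)
  have hHΓ : ∀ x < 192, φ x ∈ ι.range := hH
  have hR : RSub φ parA ≤ ι.range := by
    set K : Subgroup (RBar φ parA) := (ι.range.subgroupOf (RSub φ parA)).map (q φ parA)
    have hmem : ∀ (g : ↥(RSub φ parA)), (g : G) ∈ ι.range → q φ parA g ∈ K :=
      fun g hg => Subgroup.mem_map_of_mem _ hg
    have htop : K = ⊤ := by
      apply Subgroup.eq_top_of_card_eq
      rw [Nat.card_congr e.toEquiv, Nat.card_perm, Nat.card_fin]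
      have h8 : 8 ∣ Nat.card K := by
        have hle : Subgroup.centralizer ({q φ parA ⟨s, S.s_mem⟩} : Set (RBar φ parA)) ≤ K := by
          intro x hx
          obtain ⟨g, rfl⟩ := QuotientGroup.mk'_surjective _ x
          obtain ⟨n, hn, en⟩ := S.cent_bar (Subgroup.mem_centralizer_singleton_iff.1 hx)
          exact hmem g (en ▸ hHΓ n (mem_mcent.1 hn).1)
        obtain ⟨d⟩ := S.cent_iso.2
        have := Subgroup.card_dvd_of_le hle
        rwa [Nat.card_congr d.toEquiv, DihedralGroup.nat_card] at this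
      have h3 : 3 ∣ Nat.card K := ho3 ▸ Subgroup.orderOf_dvd_natCard K (hmem ⟨Y, hY⟩ hYr)
      have h5 : 5 ∣ Nat.card K := ho5 ▸ Subgroup.orderOf_dvd_natCard K
        (K.mul_mem (hmem f (hfval ▸ hHΓ 54 (by norm_num))) (hmem ⟨Y, hY⟩ hYr))
      have h120 : 120 ∣ Nat.card K := Nat.Coprime.mul_dvd_of_dvd_of_dvd (show Nat.Coprime 24 5 by norm_num)
        (Nat.Coprime.mul_dvd_of_dvd_of_dvd (show Nat.Coprime 8 3 by norm_num) h8 h3) h5
      have hle := Subgroup.card_le_card_group K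
      rw [Nat.card_congr e.toEquiv, Nat.card_perm, Nat.card_fin] at hle
      exact le_antisymm hle (Nat.le_of_dvd Nat.card_pos h120)
    intro g hg
    have : q φ parA ⟨g, hg⟩ ∈ K := htop ▸ Subgroup.mem_top _
    obtain ⟨h, hh, e'⟩ := this
    rcases (S.q_eq).1 e'.symm with h' | h'
    · exact (show g = (h : G) from h') ▸ hh
    · exact (show g = (h : G) * φ parA.t from h') ▸ ι.range.mul_mem hh (hHΓ _ S.codes_P.1)
  have htop := S.closed hHΓ hαr hR
  exact ⟨(MulEquiv.ofBijective ι ⟨hinj, MonoidHom.range_eq_top.1 htop⟩).symm⟩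

end CfsgQS3.Zero

namespace CfsgQS3.Dat

open Zero

variable {G : Type*} [Group G] [Finite G] {s : G} {φ : ℕ → G} (D : Dat s 0 φ)
include D

/-- The type 0. -/
theorem zero_case (h54 : InU s φ 54) :
    (∃ (N : Subgroup G) (_hN : N.Normal), IsMulCommutative N ∧ (∀ n ∈ N, n ^ 2 = 1) ∧ Nat.card N = 8 ∧
      Nonempty (G ⧸ N ≃* Matrix.ProjectiveSpecialLinearGroup (Fin 3) (ZMod 2))) ∨ Cfsg.Spor.IsoM12 G := by
  rcases D.zero_split h54 with h | ⟨φ', P, α, hP, D', hA⟩
  · exact Or.inl h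
  · exact Or.inr (std_M12 ⟨D', hP, hA⟩)

end CfsgQS3.Dat
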