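import Mathlib.GroupTheory.Perm.Fin
import Mathlib.Tactic.NormNum

/-!
Groups with an involution centraliser `Q.S₃`: facts on the symmetric groups of degree four and five.
-/

set_option autoImplicit false
set_option maxRecDepth 100000
set_option synthInstance.maxSize 2000

namespace CfsgQS3.Zero

open Equiv

/-- The double transposition on five points. -/
def z5 : Perm (Fin 5) := swap 0 1 * swap 2 3

/-- The double transposition on four points. -/
def z4 : Perm (Fin 4) := swap 0 1 * swap 2 3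

theorem dt5 : ∀ g : Perm (Fin 5), g * g ≠ 1 → g * g * (g * g) = 1 → ∃ c : Perm (Fin 5), c * (g * g) * c⁻¹ = z5 := by
  decide +kernel

theorem dt4 : ∀ g : Perm (Fin 4), g * g ≠ 1 → g * g * (g * g) = 1 → ∃ c : Perm (Fin 4), c * (g * g) * c⁻¹ = z4 := by
  decide +kernel

theorem into_cent5 : ∀ g : Perm (Fin 5), g * g = 1 →
    ∃ c : Perm (Fin 5), c * g * c⁻¹ * z5 = z5 * (c * g * c⁻¹) := by decide +kernel

theorem into_cent4 : ∀ g : Perm (Fin 4), g * g = 1 →
    ∃ c : Perm (Fin 4), c * g * c⁻¹ * z4 = z4 * (c * g * c⁻¹) := by decide +kernel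

theorem class4 : ∀ a : Perm (Fin 4), a * z4 * a⁻¹ ≠ z4 → a * z4 * a⁻¹ * z4 = z4 * (a * z4 * a⁻¹) →
    ∀ c : Perm (Fin 4), c * z4 * c⁻¹ ∈ [z4, a * z4 * a⁻¹, z4 * (a * z4 * a⁻¹)] := by decide +kernel

/-- The wanted element of order three. -/
def goodY (w a y : Perm (Fin 5)) : Bool :=
  decide (y ≠ 1) && decide (y * y * y = 1) && decide (w * y = y * w) && decide (y * z5 * (y * z5) = 1) &&
    (let f := a * z5 * a⁻¹
     decide (f * y * (f * y) * (f * y) * (f * y) * (f * y) = 1) && decide (f * y ≠ 1) &&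
      decide (∀ y' : Perm (Fin 5), y' * y' * y' = 1 → w * y' = y' * w → y' = 1 ∨ y' = y ∨ y' = y⁻¹) &&
      [1, z5, f, z5 * f].any fun v => decide (a * v * y * (a * v * y) = 1))

theorem five_data : ∀ w : Perm (Fin 5), w * w = 1 → w ≠ 1 → w * z5 = z5 * w →
    (∀ c : Perm (Fin 5), c * z5 * c⁻¹ ≠ w) → ∀ a : Perm (Fin 5), a * a * a = 1 →
    a * z5 * a⁻¹ * z5 = z5 * (a * z5 * a⁻¹) → a * z5 * a⁻¹ ≠ z5 → ∃ y : Perm (Fin 5), goodY w a y = true := by
  decide +kernel

end CfsgQS3.Zero
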