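import Cfsg.Agent.Lib.QS3.Zero.Quot
import Cfsg.Agent.Lib.QS3.Zero.Small
import Mathlib.Tactic.IntervalCases

/-!
Groups with an involution centraliser `Q.S₃`: coordinates on the quotient and the classes of involutions.
-/

set_option autoImplicit false
set_option maxRecDepth 100000
set_option linter.unusedSectionVars false

namespace CfsgQS3.Zero

theorem rot_chk : [parA, parB].all (fun P => decide (rotOf P < 192) &&
    mmul 0 (rotOf P) P.t == mmul 0 P.t (rotOf P) && eqT P (mmul 0 (rotOf P) (rotOf P)) 24 &&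
    mmul 0 24 P.t == mmul 0 P.t 24) = true := by decide +kernel

namespace Std

variable {G : Type*} [Group G] {s : G} {φ : ℕ → G} {P : Par} {α : G} (S : Std s φ P α)
include S

/-- Coordinates with the image of `s` a given square. -/
theorem normalise {n : ℕ} (zn : Equiv.Perm (Fin n))
    (dt : ∀ g : Equiv.Perm (Fin n), g * g ≠ 1 → g * g * (g * g) = 1 →
      ∃ c : Equiv.Perm (Fin n), c * (g * g) * c⁻¹ = zn)
    (h : Nonempty (RBar φ P ≃* Equiv.Perm (Fin n))) :
    ∃ e : RBar φ P ≃* Equiv.Perm (Fin n), e (q φ P ⟨s, S.s_mem⟩) = zn := by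
  obtain ⟨e⟩ := h
  have hD := S.dat
  have hr := S.all_par rot_chk
  simp only [Bool.and_eq_true, decide_eq_true_eq, beq_iff_eq] at hr
  obtain ⟨⟨⟨hr1, hr2⟩, hr3⟩, -⟩ := hr
  set g := q φ P ⟨φ (rotOf P), S.mem_R hr1 hr2⟩
  set z := q φ P ⟨s, S.s_mem⟩
  have hgg : g * g = z := by
    rw [← map_mul, S.q_eq]
    have h := (S.eqT_iff (hD.lt_mul hr1 hr1) (by norm_num)).1 hr3
    rwa [hD.mul _ hr1 _ hr1, hD.zc] at h
  obtain ⟨hord, -⟩ := S.cent_iso
  have hz2 : orderOf z = 2 := hord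
  have hz1 : z ≠ 1 := fun e' => by rw [e', orderOf_one] at hz2; omega
  have hzz : z * z = 1 := by rw [← sq, ← hz2, pow_orderOf_eq_one]
  obtain ⟨c, hc⟩ := dt (e g) (by rw [← map_mul, hgg, ne_eq, map_eq_one_iff e e.injective]; exact hz1)
    (by rw [← map_mul, hgg, ← map_mul, hzz, map_one])
  rw [← map_mul, hgg] at hc
  exact ⟨e.trans (MulAut.conj c), hc⟩

/-- An element with involutory image is conjugate in the centraliser into the centraliser of `s`. -/
theorem into_cent {n : ℕ} {zn : Equiv.Perm (Fin n)} (e : RBar φ P ≃* Equiv.Perm (Fin n))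
    (he : e (q φ P ⟨s, S.s_mem⟩) = zn)
    (ic : ∀ g : Equiv.Perm (Fin n), g * g = 1 → ∃ c : Equiv.Perm (Fin n), c * g * c⁻¹ * zn = zn * (c * g * c⁻¹))
    {g : ↥(RSub φ P)} (hg : q φ P g * q φ P g = 1) :
    ∃ c : ↥(RSub φ P), ∃ k ∈ mcent 0 P.t, φ k = (c : G) * g * (c : G)⁻¹ := by
  obtain ⟨d, hd⟩ := ic (e (q φ P g)) (by rw [← map_mul, hg, map_one])
  obtain ⟨c, hc⟩ := QuotientGroup.mk'_surjective (Subgroup.zpowers (tR φ P)) (e.symm d)
  have hcd : e (q φ P c) = d := by rw [show q φ P c = e.symm d from hc, MulEquiv.apply_symm_apply]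
  obtain ⟨k, hk, hk'⟩ := S.cent_bar (g := c * g * c⁻¹) (e.injective (by
    simp only [map_mul, map_inv, hcd, he]
    exact hd))
  exact ⟨c, k, hk, hk'⟩

/-- An element whose cube is trivial and whose image is that of another one equals it. -/
theorem odd_lift {g h : G} (hg : g ∈ RSub φ P) (hh : h ∈ RSub φ P) (g3 : g * g * g = 1) (h3 : h * h * h = 1)
    (e : q φ P ⟨g, hg⟩ = q φ P ⟨h, hh⟩) : g = h := by
  rcases (S.q_eq).1 e with e' | e'
  · exact e'
  · exfalso
    have hc : Commute h (φ P.t) := Subgroup.mem_centralizer_singleton_iff.1 hh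
    have e1 : (h * φ P.t) ^ 3 = 1 := by
      rw [pow_succ, pow_two, ← show g = h * φ P.t from e']; exact g3
    rw [hc.mul_pow, pow_succ, pow_two, h3, one_mul, pow_succ, pow_two, S.tt.1, one_mul] at e1
    exact S.tt.2 e1

theorem t_order : orderOf (φ P.t) = 2 :=
  orderOf_eq_prime (by rw [sq]; exact S.tt.1) S.tt.2

theorem s_order : orderOf s = 2 := orderOf_eq_prime (by rw [sq]; exact S.dat.s_sq) S.dat.s_ne

theorem not_isConj : ¬ IsConj s (φ P.t) := fun h => by
  obtain ⟨c, hc⟩ := isConj_iff.1 h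
  exact S.not_conj_twelve S.codes_P.1 S.twelves_P.1 c hc

/-- There are exactly two classes of involutions. -/
theorem two_classes [Finite G] {x : G} (hx : orderOf x = 2) : IsConj s x ∨ IsConj (φ P.t) x := by
  have hD := S.dat
  have hxx : x * x = 1 := by rw [← sq, ← hx, pow_orderOf_eq_one]
  obtain ⟨c, n, hn, e⟩ := hD.invol_into_T hxx
  have hn' := (mem_tCodes.1 hn).1
  have h1 : n ≠ 0 := fun h => by
    rw [h, hD.one] at e
    have hx1 : x = 1 := conj_eq_one_iff.1 e.symm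
    rw [hx1, orderOf_one] at hx
    omega
  have h2 : mmul 0 n n = 0 := (hD.sq_iff hn').1 (by
    rw [e, show c * x * c⁻¹ * (c * x * c⁻¹) = c * (x * x) * c⁻¹ by group, hxx]; group)
  have hback : x = c⁻¹ * φ n * c := by rw [e]; group
  by_cases h24 : n = 24
  · refine Or.inl (isConj_iff.2 ⟨c⁻¹, ?_⟩)
    rw [hback, h24, hD.zc, inv_inv]
  rcases S.code_class hn' (by simp [isInv, h1, h24, h2]) with ⟨-, g, hg⟩ | ⟨-, d, hd, hd'⟩
  · refine Or.inl (isConj_iff.2 ⟨c⁻¹ * g, ?_⟩)
    rw [hback, ← hg]; group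
  · refine Or.inr (isConj_iff.2 ⟨c⁻¹ * (φ d)⁻¹, ?_⟩)
    rw [hback, ← hd', hD.conj hd hn']; group

end Std

end CfsgQS3.Zero
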