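import Cfsg.Agent.Lib.QS3.Zero.Options
import Mathlib.GroupTheory.SpecificGroups.Dihedral

/-!
Groups with an involution centraliser `Q.S₃`: checks on the two standard actions in the type 0.
-/

set_option autoImplicit false
set_option maxRecDepth 100000

namespace CfsgQS3.Zero

open DihedralGroup

/-- An element of order four modulo the fixed element. -/
def rotOf (P : Par) : ℕ := if P.t = 114 then 18 else 12

/-- The code attached to an element of the dihedral group. -/
def dcode (P : Par) : DihedralGroup 4 → ℕ
  | r i => ((List.range i.val).foldl (fun v _ => mmul 0 v (rotOf P)) 0)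
  | sr i => mmul 0 54 ((List.range i.val).foldl (fun v _ => mmul 0 v (rotOf P)) 0)

/-- Two codes agree up to the fixed element. -/
def eqT (P : Par) (x y : ℕ) : Bool := x == y || x == mmul 0 y P.t

/-- The elements of the four group. -/
def fourList : List ℕ := [24, 54, 78]

/-- The checks on the codes. -/
def parChk (P : Par) : Bool :=
  decide (P.t < 192) && decide (P.a < 192) && decide (P.x < 192) && row0.cen.contains P.t &&
    fap row0 P.ys P.t == P.t && fap row0 P.ys 24 == 54 && fap row0 P.ys 54 == 78 &&
    isTwelve P.t && isTwelve P.a && isTwelve (mmul 0 P.a P.t) && isTwelve (mmul 0 24 P.t) && P.a != P.t &&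
    mmul 0 P.a P.t == mmul 0 P.t P.a &&
    (fourList.all fun n => isTwelve (mmul 0 n P.t) && decide (n < 192) && mmul 0 n P.t == mmul 0 P.t n) &&
    mmul 0 (mmul 0 P.x P.x) P.x == 0 &&
    ([P.t, P.a].all fun w => [P.t, P.a, mmul 0 P.a P.t].contains (mconj 0 (minv 0 P.x) w)) &&
    mconj 0 P.x P.t != P.t &&
    (mcent 0 P.t).all fun x => (mmul 0 x x == 0 || mmul 0 x x == 24) &&
      (!isInv 0 x || isTwelve x || fourList.contains x || x == 24)

theorem par_chk : [parA, parB].all parChk = true := by decide +kernel

/-- The dihedral codes give the centraliser modulo the fixed element. -/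
def dihChk (P : Par) : Bool :=
  (decide (∀ d : DihedralGroup 4, dcode P d < 192 ∧ mmul 0 (dcode P d) P.t = mmul 0 P.t (dcode P d))) &&
    (decide (∀ d e : DihedralGroup 4, eqT P (dcode P (d * e)) (mmul 0 (dcode P d) (dcode P e)) = true)) &&
    (decide (∀ d : DihedralGroup 4, eqT P (dcode P d) 0 = true → d = 1)) &&
    (mcent 0 P.t).all fun x => decide (∃ d : DihedralGroup 4, eqT P (dcode P d) x = true)

theorem dih_chk : [parA, parB].all dihChk = true := by decide +kernel

/-- The classes of involutions fused by the action. -/
def classChk (P : Par) : Bool :=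
  codes.all fun n => !isInv 0 n || (n % 6 == 0 && (isSix 0 n || isTwelve n)) ||
    codes.any fun c => row0.cen.contains (mconj 0 c n) && isSix 0 (fap row0 P.ys (mconj 0 c n))

theorem class_chk : [parA, parB].all classChk = true := by decide +kernel

theorem twelve_conj : [parA, parB].all (fun P => codes.all fun n => !isTwelve n ||
    codes.any fun c => mconj 0 c n == P.t) = true := by decide +kernel

/-- The codes of the conjugates of `s` centralising `s`. -/
def uList : List ℕ := codes.filter fun n => (isInv 0 n && !isTwelve n) || n == 24

/-- The codes of the class of twelve elements. -/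
def tList : List ℕ := codes.filter isTwelve

/-- The pairs whose product has a power equal to `s`. -/
def nPairs : List (ℕ × ℕ) := (uList.product tList).filter fun p =>
  (List.range 8).any fun i => mword 0 (List.replicate i (mmul 0 p.1 p.2)) == 24

theorem nPairs_card : nPairs.length ≤ 240 := by decide +kernel

theorem prod_period : ((uList.product tList).all fun p =>
    let q := mmul 0 p.1 p.2
    let q2 := mmul 0 q q
    let q4 := mmul 0 q2 q2
    mmul 0 q4 q4 == 0) = true := by decide +kernel

/-- The codes moved by `α` out of the centraliser. -/
def outA : List ℕ := uList.filter fun c => mmul 0 c 78 != mmul 0 78 c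

/-- The codes moved by `α⁻¹` out of the centraliser. -/
def outB : List ℕ := uList.filter fun c => mmul 0 c 54 != mmul 0 54 c

/-- A code conjugated out of both. -/
def extraChk (P : Par) : Bool :=
  codes.any fun h => row0.cen.contains (mconj 0 (minv 0 h) 54) && row0.cen.contains (mconj 0 (minv 0 h) 78) &&
    outA.any fun c =>
      let y := fap row0 P.ys (fap row0 P.ys (mconj 0 (minv 0 h) 54))
      let y' := fap row0 P.ys (fap row0 P.ys (mconj 0 (minv 0 h) 78))
      row0.cen.contains (fap row0 P.ys (mconj 0 (minv 0 h) 54)) &&
        row0.cen.contains (fap row0 P.ys (mconj 0 (minv 0 h) 78)) &&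
        decide (y < 192) && decide (y' < 192) && mmul 0 c y != mmul 0 y c && mmul 0 c y' != mmul 0 y' c

theorem extra_chk : [parA, parB].all extraChk = true := by decide +kernel

theorem out_sizes : uList.length = 31 ∧ outA.length = 16 ∧ outB.length = 16 ∧
    (fourList.all fun n => decide (n < 192)) = true := by decide +kernel

end CfsgQS3.Zero
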