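import Cfsg.Agent.Lib.QS3.EMain
import Cfsg.Agent.Lib.QS3.Zero.Data

/-!
Groups with an involution centraliser `Q.S₃`: the actions in the type 0 and their normal forms.
-/

set_option autoImplicit false
set_option maxRecDepth 100000
set_option linter.unusedSectionVars false

namespace CfsgQS3.Zero

/-- A code in the class of twelve elements. -/
def isTwelve (n : ℕ) : Bool := isInv 0 n && n % 6 == 0 && (mcent 0 n).length == 16

/-- The action moves a six-element class to the class of twelve elements. -/
def bad0 (ys : List ℕ) : Bool := row0.cen.any fun x => isSix 0 x &&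
  (isTwelve (fap row0 ys x) || row0.cen.contains (fap row0 ys x) && isTwelve (fap row0 ys (fap row0 ys x)))

/-- The automorphism with the given images of the generators. -/
def autF (im : List ℕ) (x : ℕ) : ℕ := mword 0 ((hWords.getD x []).map fun i => im.getD i 0)

/-- The images define an automorphism fixing the four group. -/
def autOK (im : List ℕ) : Bool :=
  (im.all fun v => decide (v < 192)) &&
    (codes.all fun x => [0, 1, 2].all fun i =>
      autF im (mmul 0 x (hGens.getD i 0)) == mmul 0 (autF im x) (im.getD i 0)) &&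
    (codes.all fun x => autF im x != 0 || x == 0) && autF im 0 == 0 && autF im 24 == 24 && autF im 54 == 54

/-- The case of an entry. -/
def parOf (b : Bool) : Par := if b then parA else parB

theorem hWords_ok : (codes.all fun x =>
    mword 0 ((hWords.getD x []).map fun i => hGens.getD i 0) == x &&
      (hWords.getD x []).all fun i => decide (i < 3)) = true := by decide +kernel

/-- The test of the case with a single elementary abelian group, with that group given by its list. -/
def eTest (E : List ℕ) (R : Row) (ys : List ℕ) : Bool :=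
  (R.cen.all fun n => !isInv R.ty n || E.contains n || eMax R ys n) &&
    codes.all fun n => !isInv R.ty n || n % 6 == 0 || codes.any fun c => R.cen.contains (mconj R.ty c n) &&
      [fap R ys (mconj R.ty c n), fap R ys (fap R ys (mconj R.ty c n))].any fun m => m % 6 == 0 && !E.contains m

theorem eList_row0 : eList row0 = [0, 24, 54, 78, 108, 132, 162, 186] := by decide +kernel

theorem eTest_eList (ys : List ℕ) : eTest [0, 24, 54, 78, 108, 132, 162, 186] row0 ys = eOK row0 ys := by
  rw [← eList_row0]; rfl

/-- The action is standard or leads to one of the other cases. -/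
def splitP (ys : List ℕ) : Bool := (normTab.any fun e => e.1 == ys) || bad0 ys ||
  eTest [0, 24, 54, 78, 108, 132, 162, 186] row0 ys

theorem split0A : ((row0.opts.drop 0).take 8).all splitP = true := by decide +kernel

theorem split0B : ((row0.opts.drop 8).take 8).all splitP = true := by decide +kernel

theorem split0C : ((row0.opts.drop 16).take 8).all splitP = true := by decide +kernel

theorem split0D : ((row0.opts.drop 24).take 8).all splitP = true := by decide +kernel

theorem split0E : ((row0.opts.drop 32).take 8).all splitP = true := by decide +kernel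

theorem split0F : ((row0.opts.drop 40).take 8).all splitP = true := by decide +kernel

theorem split0G : ((row0.opts.drop 48).take 8).all splitP = true := by decide +kernel

theorem split0H : ((row0.opts.drop 56).take 8).all splitP = true := by decide +kernel

theorem split0 : row0.opts.all splitP = true := by
  have e : row0.opts = (row0.opts.drop 0).take 8 ++
      (row0.opts.drop 8).take 8 ++
      (row0.opts.drop 16).take 8 ++
      (row0.opts.drop 24).take 8 ++
      (row0.opts.drop 32).take 8 ++
      (row0.opts.drop 40).take 8 ++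
      (row0.opts.drop 48).take 8 ++
      (row0.opts.drop 56).take 8 := rfl
  rw [e]
  simp only [List.all_append, split0A, split0B, split0C, split0D, split0E, split0F, split0G, split0H, Bool.and_self]

/-- The entry carries the action to a standard one. -/
def normP (e : List ℕ × Bool × List ℕ) : Bool :=
  autOK e.2.2 && row0.cen.all fun x =>
    autF e.2.2 (fap row0 (parOf e.2.1).ys x) == fap row0 e.1 (autF e.2.2 x) &&
      row0.cen.contains (autF e.2.2 x)

theorem norm_okA : (normTab.take 4).all normP = true := by decide +kernel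

theorem norm_okB : ((normTab.drop 4).take 4).all normP = true := by decide +kernel

theorem norm_okC : ((normTab.drop 8).take 4).all normP = true := by decide +kernel

theorem norm_okD : ((normTab.drop 12).take 4).all normP = true := by decide +kernel

theorem norm_okE : (normTab.drop 16).all normP = true := by decide +kernel

theorem norm_ok : (normTab.all normP) = true := by
  have e : normTab = normTab.take 4 ++ (normTab.drop 4).take 4 ++ (normTab.drop 8).take 4 ++
      (normTab.drop 12).take 4 ++ normTab.drop 16 := rfl
  rw [e]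
  simp only [List.all_append, norm_okA, norm_okB, norm_okC, norm_okD, norm_okE, Bool.and_self]

theorem par_ok : [parA, parB].all (fun P => row0.opts.contains P.ys) = true := by decide +kernel

theorem six_eList : (codes.all fun n => !isSix 0 n || (eList row0).contains n) = true := by decide +kernel

theorem six_conj : (codes.all fun n => !isSix 0 n || codes.any fun c => mconj 0 c 54 == n) = true := by decide +kernel

theorem opts_lt : (row0.opts.all fun o => o.all fun v => decide (v < 192)) = true := by decide +kernel

theorem fap_lt_of {ys : List ℕ} (hys : ys ∈ row0.opts) {G : Type*} [Group G] {s : G} {φ : ℕ → G} (D : Dat s 0 φ)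
    (x : ℕ) : fap row0 ys x < 192 :=
  (D.mword_eq _ fun v hv => by
    obtain ⟨i, -, rfl⟩ := List.mem_map.1 hv
    have h := List.all_eq_true.1 opts_lt ys hys
    rcases lt_or_ge i ys.length with h' | h'
    · rw [List.getD_eq_getElem?_getD, List.getElem?_eq_getElem h']
      exact decide_eq_true_iff.1 (List.all_eq_true.1 h _ (List.getElem_mem _))
    · rw [List.getD_eq_default _ _ h']; norm_num).2

end CfsgQS3.Zero

namespace CfsgQS3.Dat

open Zero

variable {G : Type*} [Group G] {s : G} {φ : ℕ → G} (D : Dat s 0 φ)
include D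

/-- Coordinates changed by an automorphism. -/
theorem comp_aut0 {im : List ℕ} (h : autOK im = true) :
    Dat s 0 (fun x => φ (autF im x)) ∧ autF im 54 = 54 := by
  simp only [autOK, Bool.and_eq_true, List.all_eq_true, beq_iff_eq, decide_eq_true_eq, Bool.or_eq_true, bne_iff_ne,
    ne_eq] at h
  obtain ⟨⟨⟨⟨⟨him, hstep⟩, hker⟩, h0⟩, h24⟩, h54⟩ := h
  have hg : ∀ i < 3, hGens.getD i 0 < 192 := by decide
  have hw : ∀ x < 192, mword 0 ((hWords.getD x []).map fun i => hGens.getD i 0) = x ∧
      ∀ i ∈ hWords.getD x [], i < 3 := by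
    intro x hx
    have := all_codes hWords_ok hx
    simpa using this
  have himl : ∀ i, im.getD i 0 < 192 := by
    intro i
    rcases lt_or_ge i im.length with h' | h'
    · rw [List.getD_eq_getElem?_getD, List.getElem?_eq_getElem h']
      exact him _ (List.getElem_mem _)
    · rw [List.getD_eq_default _ _ h']; norm_num
  have hlt : ∀ x, autF im x < 192 := fun x => (D.mword_eq _ fun v hv => by
    obtain ⟨i, -, rfl⟩ := List.mem_map.1 hv; exact himl i).2
  set ψ := fun x => φ (autF im x)
  have hstep' : ∀ x < 192, ∀ i < 3, ψ (mmul 0 x (hGens.getD i 0)) = ψ x * φ (im.getD i 0) := by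
    intro x hx i hi
    show φ _ = _
    rw [hstep x (List.mem_range.2 hx) i (by simp only [List.mem_cons, List.not_mem_nil, or_false]; omega),
      D.mul _ (hlt x) _ (himl i)]
  have hwords : ∀ l : List ℕ, (∀ i ∈ l, i < 3) → ∀ x < 192,
      ψ (mmul 0 x (mword 0 (l.map fun i => hGens.getD i 0))) = ψ x * (l.map fun i => φ (im.getD i 0)).prod := by
    intro l
    induction l using List.reverseRecOn with
    | nil =>
      intro _ x hx
      have hx0 : mmul 0 x (mword 0 []) = x := (minv_ok 0 (by norm_num) x hx).2.2.2.1
      simp only [List.map_nil, List.prod_nil, mul_one, hx0]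
    | append_singleton l i ih =>
      intro hl x hx
      have hi := hl i (by simp)
      have hl' := fun j hj => hl j (List.mem_append_left _ hj)
      have hA : mword 0 (l.map fun i => hGens.getD i 0) < 192 := (D.mword_eq _ fun v hv => by
        obtain ⟨j, hj, rfl⟩ := List.mem_map.1 hv; exact hg j (hl' j hj)).2
      have e : mword 0 ((l ++ [i]).map fun i => hGens.getD i 0) =
          mmul 0 (mword 0 (l.map fun i => hGens.getD i 0)) (hGens.getD i 0) := by simp [mword]
      rw [e, D.inj _ (D.lt_mul hx (D.lt_mul hA (hg i hi))) _ (D.lt_mul (D.lt_mul hx hA) (hg i hi))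
        (by rw [D.mul _ hx _ (D.lt_mul hA (hg i hi)), D.mul _ hA _ (hg i hi), D.mul _ (D.lt_mul hx hA) _ (hg i hi),
          D.mul _ hx _ hA, mul_assoc]), hstep' _ (D.lt_mul hx hA) i hi, ih hl' x hx]
      simp [mul_assoc]
  have hmul : ∀ x < 192, ∀ y < 192, ψ (mmul 0 x y) = ψ x * ψ y := by
    intro x hx y hy
    obtain ⟨e, hl⟩ := hw y hy
    have h1 := hwords _ hl x hx
    rw [e] at h1
    rw [h1]
    congr 1
    show _ = φ (autF im y)
    rw [autF, (D.mword_eq _ fun v hv => by obtain ⟨i, -, rfl⟩ := List.mem_map.1 hv; exact himl i).1, List.map_map]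
    rfl
  have hone : ψ 0 = 1 := by show φ _ = _; rw [h0, D.one]
  have hinj : ∀ x < 192, ∀ y < 192, ψ x = ψ y → x = y := by
    intro x hx y hy e
    have hix : minv 0 x < 192 := D.lt_inv hx
    have e1 : ψ (mmul 0 (minv 0 x) y) = 1 := by
      rw [hmul _ hix _ hy, ← e, ← hmul _ hix _ hx, (minv_ok 0 (by norm_num) x hx).1, hone]
    have e2 : mmul 0 (minv 0 x) y = 0 :=
      (hker _ (List.mem_range.2 (D.lt_mul hix hy))).resolve_left fun h =>
        h ((D.eq_one_iff (hlt _)).1 e1)
    have e3 := congrArg φ e2
    rw [D.mul _ hix _ hy, D.inv hx, D.one] at e3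
    exact D.inj _ hx _ hy (inv_mul_eq_one.1 e3)
  refine ⟨⟨by norm_num, hmul, hinj, fun c => ⟨fun hc => ?_, ?_⟩, by show φ _ = _; rw [h24, D.zc]⟩, h54⟩
  · obtain ⟨n, hn, rfl⟩ := (D.cent c).1 hc
    have hb : Function.Bijective (fun x : Fin 192 => (⟨autF im x, hlt x⟩ : Fin 192)) :=
      Finite.injective_iff_bijective.1 fun a b e => Fin.ext (hinj a a.2 b b.2 (congrArg φ (congrArg Fin.val e)))
    obtain ⟨x, hx⟩ := hb.2 ⟨n, hn⟩
    exact ⟨x, x.2, congrArg φ (congrArg Fin.val hx)⟩
  · rintro ⟨x, -, rfl⟩
    exact (D.cent _).2 ⟨_, hlt x, rfl⟩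

/-- A conjugate of `s` in `Q` is not in the class of twelve elements. -/
theorem not_inU_twelve {n : ℕ} (hn : n < 192) (h : isTwelve n = true) : ¬ InU s φ n := fun hU => by
  simp only [isTwelve, isInv, Bool.and_eq_true, beq_iff_eq, bne_iff_ne, ne_eq] at h
  obtain ⟨⟨⟨⟨-, h24⟩, -⟩, h6⟩, h16⟩ := h
  have hs := D.inU_six hn h6 hU h24
  simp only [isSix, Bool.and_eq_true, beq_iff_eq] at hs
  omega

theorem inU_six0 {n : ℕ} (hn : n < 192) (h : isSix 0 n = true) (h54 : InU s φ 54) : InU s φ n := by
  have h' := all_codes six_conj hn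
  simp only [h, Bool.not_true, Bool.false_or, List.any_eq_true, beq_iff_eq] at h'
  obtain ⟨c, hc, rfl⟩ := h'
  exact D.inU_conj (by norm_num) (List.mem_range.1 hc) h54

/-- In the type 0 either the conjugates of `s` form an elementary abelian group with `s`, or the action is one of two
standard ones. -/
theorem zero_split [Finite G] (h54 : InU s φ 54) :
    (∃ (N : Subgroup G) (_hN : N.Normal), IsMulCommutative N ∧ (∀ n ∈ N, n ^ 2 = 1) ∧ Nat.card N = 8 ∧
      Nonempty (G ⧸ N ≃* Matrix.ProjectiveSpecialLinearGroup (Fin 3) (ZMod 2))) ∨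
    ∃ (φ' : ℕ → G) (P : Par) (α : G), (P = parA ∨ P = parB) ∧ Dat s 0 φ' ∧ Act s φ' row0 P.ys α := by
  have hR : row0 ∈ rows := by simp [rows]
  obtain ⟨α, ys, hA⟩ := D.exists_act hR rfl h54
  have h := List.all_eq_true.1 split0 ys hA.mem
  simp only [splitP, eTest_eList, Bool.or_eq_true, List.any_eq_true, beq_iff_eq] at h
  replace h : (eOK row0 ys = true ∨ bad0 ys = true) ∨ ∃ e ∈ normTab, e.1 = ys := by tauto
  rcases h with (he | hb) | ⟨e, he, rfl⟩
  · refine Or.inl (D.eCase hR rfl hA he (fun n hn h6 hU => ?_) h54)
    by_cases h24 : n = 24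
    · rw [h24]; decide +kernel
    · have h' := all_codes six_eList hn
      simp only [D.inU_six hn h6 hU h24, Bool.not_true, Bool.false_or, List.contains_iff_mem] at h'
      exact h'
  · exfalso
    simp only [bad0, List.any_eq_true, Bool.and_eq_true, Bool.or_eq_true, List.contains_iff_mem] at hb
    obtain ⟨x, hx, hs, hcase⟩ := hb
    have hx' : x < 192 := (mem_mcent.1 (beq_iff_eq.1 ((by decide +kernel : (row0.cen == mcent 0 54) = true)) ▸ hx)).1
    obtain ⟨g, hg⟩ := D.inU_six0 hx' hs h54
    have h1 : InU s φ (fap row0 ys x) := ⟨α * g, by rw [← hA.act x hx, ← hg]; group⟩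
    rcases hcase with h12 | ⟨hy, h12⟩
    · exact D.not_inU_twelve (fap_lt_of hA.mem D x) h12 h1
    · obtain ⟨g', hg'⟩ := h1
      exact D.not_inU_twelve (fap_lt_of hA.mem D _) h12 ⟨α * g', by rw [← hA.act _ hy, ← hg']; group⟩
  · obtain ⟨hok, hcen⟩ := (Bool.and_eq_true _ _).mp ((List.all_eq_true.1 norm_ok e he : normP e = true))
    simp only [List.all_eq_true, Bool.and_eq_true, beq_iff_eq, List.contains_iff_mem] at hcen
    obtain ⟨D', h54'⟩ := D.comp_aut0 hok
    refine Or.inr ⟨_, parOf e.2.1, α, by unfold parOf; split_ifs <;> simp, D', hA.cube, ?_, ?_, ?_, fun x hx => ?_⟩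
    · show _ = φ (autF e.2.2 54)
      rw [h54']; exact hA.conj_s
    · show α * φ (autF e.2.2 54) * α⁻¹ = φ (autF e.2.2 54) * s
      rw [h54']; exact hA.conj_r
    · have h := par_ok
      simp only [List.all_cons, List.all_nil, Bool.and_eq_true, List.contains_iff_mem] at h
      unfold parOf
      split_ifs
      · exact h.1
      · exact h.2.1
    · obtain ⟨e1, e2⟩ := hcen x hx
      show α * φ (autF e.2.2 x) * α⁻¹ = φ (autF e.2.2 (fap row0 (parOf e.2.1).ys x))
      rw [e1]; exact hA.act _ e2

end CfsgQS3.Dat
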