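import Cfsg.Agent.Lib.QS3.Coset
import Cfsg.Agent.Lib.QS3.Zero.Options

/-!
Groups with an involution centraliser `Q.S₃`: the relations of the five letters in the type 0.
-/

set_option autoImplicit false
set_option maxRecDepth 100000
set_option linter.unusedSectionVars false

namespace CfsgQS3.Zero

/-- The code of a letter of the centraliser. -/
def lcode (i : ℕ) : ℕ := [60, 2, 1, 0, 0, minv 0 60, minv 0 2, minv 0 1].getD i 0

/-- A letter of the centraliser. -/
def isH0 (i : ℕ) : Bool := [0, 1, 2, 5, 6, 7].contains i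

/-- The code of a word in the centraliser. -/
def hval (w : List ℕ) : ℕ := mword 0 (w.map lcode)

/-- A word of one of the basic forms. -/
def baseOK (P : Par) (w : List ℕ) : Bool :=
  (w.all isH0 && hval w == 0) || w == [3, 3, 3] || w == [4, 4, 4] || w == [3, 4, 3, 4] ||
    (let u := (w.drop 1).takeWhile isH0
     let r := (w.drop 1).dropWhile isH0
     (r.drop 1).all isH0 &&
      ((w == 3 :: (u ++ 8 :: r.drop 1) && row0.cen.contains (hval u) &&
          mmul 0 (fap row0 P.ys (hval u)) (hval (r.drop 1)) == 0) ||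
        (w == 4 :: (u ++ 4 :: r.drop 1) && hval u == 24 && hval (r.drop 1) == 24) ||
        (w == 4 :: (u ++ 9 :: r.drop 1) && [P.t, P.a, P.x].contains (hval u) &&
          mmul 0 (hval u) (hval (r.drop 1)) == 0)))

/-- A rotation of the word is basic. -/
def relOK (P : Par) (w : List ℕ) : Bool :=
  (List.range w.length).any fun k => baseOK P (w.drop k ++ w.take k)

theorem rels_ok : (relsA.all (relOK parA)) = true ∧ (relsB.all (relOK parB)) = true := by decide +kernel

/-- The letters. -/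
def letters {G : Type*} [Group G] (φ : ℕ → G) (α Y : G) (i : ℕ) : G :=
  [φ 60, φ 2, φ 1, α, Y, (φ 60)⁻¹, (φ 2)⁻¹, (φ 1)⁻¹, α⁻¹, Y⁻¹].getD i 1

/-- The element `Y` and its relations. -/
structure YRel {G : Type*} [Group G] (s : G) (φ : ℕ → G) (P : Par) (α Y : G) : Prop where
  cube : Y * Y * Y = 1
  inv_s : Y * s * (Y * s) = 1
  ct : Y * φ P.t = φ P.t * Y
  ca : Y * φ P.a = φ P.a * Y
  cx : Y * φ P.x = φ P.x * Y
  invol : α * Y * (α * Y) = 1

end CfsgQS3.Zero

namespace CfsgQS3.Dat

open Zero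

variable {G : Type*} [Group G] {s : G} {φ : ℕ → G} (D : Dat s 0 φ)
include D

theorem val_H0 (α Y : G) {w : List ℕ} (h : w.all isH0 = true) :
    wordVal (letters φ α Y) w = φ (hval w) ∧ hval w < 192 := by
  have hl : ∀ i, isH0 i = true → lcode i < 192 ∧ letters φ α Y i = φ (lcode i) := by
    intro i hi
    simp only [isH0, List.contains_iff_mem, List.mem_cons, List.not_mem_nil, or_false] at hi
    rcases hi with rfl | rfl | rfl | rfl | rfl | rfl
    · exact ⟨by decide +kernel, rfl⟩
    · exact ⟨by decide +kernel, rfl⟩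
    · exact ⟨by decide +kernel, rfl⟩
    · exact ⟨D.lt_inv (by norm_num), (D.inv (x := 60) (by norm_num)).symm⟩
    · exact ⟨D.lt_inv (by norm_num), (D.inv (x := 2) (by norm_num)).symm⟩
    · exact ⟨D.lt_inv (by norm_num), (D.inv (x := 1) (by norm_num)).symm⟩
  rw [List.all_eq_true] at h
  obtain ⟨e, hlt⟩ := D.mword_eq (w.map lcode) (fun v hv => by
    obtain ⟨i, hi, rfl⟩ := List.mem_map.1 hv; exact (hl i (h i hi)).1)
  refine ⟨?_, hlt⟩
  rw [hval, e, List.map_map]
  exact congrArg List.prod (List.map_congr_left fun i hi => (hl i (h i hi)).2)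

theorem base_rel {P : Par} (hP : P.ys ∈ row0.opts) {α Y : G} (hA : Act s φ row0 P.ys α) (hY : YRel s φ P α Y)
    {w : List ℕ} (h : baseOK P w = true) : wordVal (letters φ α Y) w = 1 := by
  have hz : ∀ x y : ℕ, x < 192 → y < 192 → mmul 0 x y = 0 → φ x * φ y = 1 := fun x y hx hy e => by
    rw [← D.mul _ hx _ hy, e, D.one]
  have hinv : ∀ x y : ℕ, x < 192 → y < 192 → mmul 0 x y = 0 → φ y = (φ x)⁻¹ := fun x y hx hy e =>
    eq_inv_of_mul_eq_one_right (hz x y hx hy e)
  simp only [baseOK, Bool.or_eq_true, Bool.and_eq_true, beq_iff_eq] at h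
  rcases h with (((⟨h1, h2⟩ | h) | h) | h) | ⟨hv, hc⟩
  · obtain ⟨e, -⟩ := D.val_H0 α Y h1
    rw [e, h2, D.one]
  · subst h; simpa [wordVal, letters, mul_assoc] using hA.cube
  · subst h; simpa [wordVal, letters, mul_assoc] using hY.cube
  · subst h; simpa [wordVal, letters, mul_assoc] using hY.invol
  set u := (w.drop 1).takeWhile isH0
  set v := ((w.drop 1).dropWhile isH0).drop 1
  have hu : u.all isH0 = true := List.all_eq_true.2 fun i hi => List.mem_takeWhile_imp hi
  obtain ⟨eu, lu⟩ := D.val_H0 α Y hu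
  obtain ⟨ev, lv⟩ := D.val_H0 α Y hv
  simp only [wordVal] at eu ev
  have l3 : letters φ α Y 3 = α := rfl
  have l8 : letters φ α Y 8 = α⁻¹ := rfl
  have l4 : letters φ α Y 4 = Y := rfl
  have l9 : letters φ α Y 9 = Y⁻¹ := rfl
  rcases hc with (⟨⟨hw, hx⟩, he⟩ | ⟨⟨hw, h1⟩, h2⟩) | ⟨⟨hw, hx⟩, he⟩
  all_goals
    rw [hw]
    simp only [wordVal, List.map_cons, List.map_append, List.prod_cons, List.prod_append, eu, ev]
  · rw [l3, l8, ← mul_assoc, ← mul_assoc, hA.act _ (List.contains_iff_mem.1 hx)]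
    exact hz _ _ (fap_lt_of hP D _) lv he
  · rw [l4, h1, h2, D.zc, ← mul_assoc]
    exact hY.inv_s
  · have hcomm : Y * φ (hval u) = φ (hval u) * Y := by
      simp only [List.contains_iff_mem, List.mem_cons, List.not_mem_nil, or_false] at hx
      rcases hx with e | e | e <;> rw [e]
      exacts [hY.ct, hY.ca, hY.cx]
    rw [l4, l9, hinv _ _ lu lv he, ← mul_assoc, hcomm]
    group

theorem rel_of0 {P : Par} (hP : P.ys ∈ row0.opts) {α Y : G} (hA : Act s φ row0 P.ys α) (hY : YRel s φ P α Y)
    {w : List ℕ} (h : relOK P w = true) : wordVal (letters φ α Y) w = 1 := by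
  simp only [relOK, List.any_eq_true] at h
  obtain ⟨k, -, hk⟩ := h
  have e := D.base_rel hP hA hY hk
  simp only [wordVal, List.map_append, List.prod_append] at e
  show ((w.map (letters φ α Y))).prod = 1
  conv_lhs => rw [← List.take_append_drop k w, List.map_append, List.prod_append]
  exact mul_eq_one_comm.1 e

end CfsgQS3.Dat
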