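import Cfsg.Agent.Lib.QS3.Zero.Four
import Cfsg.Agent.Lib.QS3.Zero.Rel

/-!
Groups with an involution centraliser `Q.S₃`: the element of order three centralising a four group of the second
class.
-/

set_option autoImplicit false
set_option maxRecDepth 100000
set_option linter.unusedSectionVars false

namespace CfsgQS3.Zero

theorem four_cen : (fourList.all fun n => decide (n < 192) && row0.cen.all fun x =>
    decide (x < 192) && mmul 0 n x == mmul 0 x n) = true := by decide +kernel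

namespace Std

variable {G : Type*} [Group G] {s : G} {φ : ℕ → G} {P : Par} {α : G} (S : Std s φ P α)
include S

/-- The fixed element has no square root. -/
theorem no_sqrt {n : ℕ} {zn : Equiv.Perm (Fin n)} (e : RBar φ P ≃* Equiv.Perm (Fin n))
    (he : e (q φ P ⟨s, S.s_mem⟩) = zn)
    (ic : ∀ g : Equiv.Perm (Fin n), g * g = 1 → ∃ c : Equiv.Perm (Fin n), c * g * c⁻¹ * zn = zn * (c * g * c⁻¹))
    {g : G} (hg : g * g = φ P.t) : False := by
  have hD := S.dat
  have hgR : g ∈ RSub φ P := Subgroup.mem_centralizer_singleton_iff.2 (by rw [← hg, mul_assoc])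
  obtain ⟨c, k, hk, hk'⟩ := S.into_cent e he ic (g := ⟨g, hgR⟩) (by rw [← map_mul, S.q_eq_one]; exact Or.inr hg)
  obtain ⟨hk1, -⟩ := mem_mcent.1 hk
  have hsq : φ (mmul 0 k k) = φ P.t := by
    rw [hD.mul _ hk1 _ hk1, hk', show (c : G) * g * (c : G)⁻¹ * ((c : G) * g * (c : G)⁻¹) = c * (g * g) * (c : G)⁻¹
      by group, hg, Subgroup.mem_centralizer_singleton_iff.1 c.2, mul_inv_cancel_right]
  have h := hD.inj _ (hD.lt_mul hk1 hk1) _ S.codes_P.1 hsq
  rcases (S.cent_t k hk).1 with h0 | h0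
  · rw [h0] at h
    exact S.tt.2 (by rw [← h, hD.one])
  · rw [h0] at h
    exact S.not_conj_twelve S.codes_P.1 S.twelves_P.1 1 (by rw [← h, hD.zc]; simp)

/-- The action composed with an element of the four group is again the standard one. -/
theorem shift {v : G} (hv : v = 1 ∨ ∃ n ∈ fourList, φ n = v) : Std s φ P (α * v) := by
  rcases hv with rfl | ⟨n, hn, rfl⟩
  · rwa [mul_one]
  have hD := S.dat
  have h := List.all_eq_true.1 four_cen n hn
  simp only [Bool.and_eq_true, decide_eq_true_eq, List.all_eq_true, beq_iff_eq] at h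
  obtain ⟨hn', hc⟩ := h
  have hcomm : ∀ x ∈ row0.cen, φ n * φ x * (φ n)⁻¹ = φ x := fun x hx => by
    rw [(hD.commute_iff hn' (hc x hx).1).2 (hc x hx).2, mul_inv_cancel_right]
  have h24 : (24 : ℕ) ∈ row0.cen := by decide
  have h54 : row0.r ∈ row0.cen := by decide
  have hconj : ∀ x ∈ row0.cen, α * φ n * φ x * (α * φ n)⁻¹ = α * φ x * α⁻¹ := fun x hx => by
    rw [show α * φ n * φ x * (α * φ n)⁻¹ = α * (φ n * φ x * (φ n)⁻¹) * α⁻¹ by group, hcomm x hx]
  refine ⟨hD, S.par, ?_, ?_, ?_, S.act.mem, fun x hx => by rw [hconj x hx]; exact S.act.act x hx⟩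
  · -- the product of the three elements of the four group is trivial
    have a1 : α * φ 24 * α⁻¹ = φ 54 := by rw [hD.zc]; exact S.act.conj_s
    have a2 : α * φ 54 * α⁻¹ = φ 78 := by
      rw [show φ 54 = φ row0.r from rfl, S.act.act _ h54]
      exact congrArg φ S.codes_P.2.2.2.2.2.2
    have a3 : α * φ 78 * α⁻¹ = φ 24 := by rw [hD.zc, ← S.α_inv]; group
    have e : α * φ n * (α * φ n) * (α * φ n) =
        (α * φ n * α⁻¹) * (α * (α * φ n * α⁻¹) * α⁻¹) * ((α * α * α) * φ n) := by group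
    have m : ∀ a b c : ℕ, a < 192 → b < 192 → c < 192 → mmul 0 (mmul 0 a b) c = 0 → φ a * φ b * φ c = 1 :=
      fun a b c ha hb hc he => by rw [← hD.mul _ ha _ hb, ← hD.mul _ (hD.lt_mul ha hb) _ hc, he, hD.one]
    rw [e, S.act.cube, one_mul]
    simp only [fourList, List.mem_cons, List.not_mem_nil, or_false] at hn
    rcases hn with rfl | rfl | rfl
    · rw [a1, a2]; exact m _ _ _ (by norm_num) (by norm_num) (by norm_num) (by decide +kernel)
    · rw [a2, a3]; exact m _ _ _ (by norm_num) (by norm_num) (by norm_num) (by decide +kernel)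
    · rw [a3, a1]; exact m _ _ _ (by norm_num) (by norm_num) (by norm_num) (by decide +kernel)
  · rw [← hD.zc, hconj 24 h24, hD.zc]; exact S.act.conj_s
  · rw [hconj _ h54]; exact S.act.conj_r

/-- The element of order three and the shifted action satisfying the relations, with the facts used for generation. -/
theorem exists_Y [Finite G] : ∃ (α' Y : G) (hY : Y ∈ RSub φ P), Std s φ P α' ∧ YRel s φ P α' Y ∧
    ∃ e : RBar φ P ≃* Equiv.Perm (Fin 5), e (q φ P ⟨s, S.s_mem⟩) = z5 ∧ orderOf (q φ P ⟨Y, hY⟩) = 3 ∧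
      ∃ f : ↥(RSub φ P), (f : G) = φ 54 ∧ orderOf (q φ P f * q φ P ⟨Y, hY⟩) = 5 := by
  have hD := S.dat
  obtain ⟨e, he⟩ := S.normalise z5 dt5 (S.quot_iso.resolve_left S.not_four)
  set z := q φ P ⟨s, S.s_mem⟩ with hzdef
  have hT := S.twelves_P
  have hn54 := hT.2.2.2.2.2.2 54 (by simp [fourList])
  set aP : ↥(RSub φ P) := ⟨φ P.a, S.mem_R S.codes_P.2.1 hT.2.2.2.2.2.1⟩ with haP
  set aR : ↥(RSub φ P) := ⟨α, S.α_mem⟩
  set fR : ↥(RSub φ P) := ⟨φ 54, S.mem_R hn54.2.1 hn54.2.2⟩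
  have haa : φ P.a * φ P.a = 1 ∧ φ P.a ≠ 1 := by
    have h := hT.2.1
    simp only [isTwelve, isInv, Bool.and_eq_true, beq_iff_eq, bne_iff_ne, ne_eq] at h
    exact ⟨(hD.sq_iff S.codes_P.2.1).2 h.1.1.2, fun e => h.1.1.1.1 ((hD.eq_one_iff S.codes_P.2.1).1 e)⟩
  set w := e (q φ P aP)
  set a := e (q φ P aR)
  have hf : a * z5 * a⁻¹ = e (q φ P fR) := by
    rw [← he, ← map_inv, ← map_mul, ← map_mul, hzdef, ← map_inv, ← map_mul, ← map_mul]
    exact congrArg e (congrArg (q φ P) (Subtype.ext S.act.conj_s))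
  have p1 : w * w = 1 := by
    rw [← map_mul, map_eq_one_iff e e.injective, ← map_mul, S.q_eq_one]; exact Or.inl haa.1
  have p2 : w ≠ 1 := by
    rw [ne_eq, map_eq_one_iff e e.injective, S.q_eq_one]
    rintro (h | h)
    · exact haa.2 h
    · exact hT.2.2.2.2.1 (hD.inj _ S.codes_P.2.1 _ S.codes_P.1 h)
  have p3 : w * z5 = z5 * w := by
    rw [← he, ← map_mul, ← map_mul, hzdef, ← map_mul, ← map_mul]
    exact congrArg e (congrArg (q φ P) (Subtype.ext (hD.comm_s S.codes_P.2.1)))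
  have p4 : ∀ c, c * z5 * c⁻¹ ≠ w := by
    intro c hc
    obtain ⟨d, hd⟩ := QuotientGroup.mk'_surjective (Subgroup.zpowers (tR φ P)) (e.symm c)
    have hdc : e (q φ P d) = c := by rw [show q φ P d = e.symm c from hd, MulEquiv.apply_symm_apply]
    rw [← hdc, ← he, ← map_inv, ← map_mul, ← map_mul, hzdef, ← map_inv, ← map_mul, ← map_mul] at hc
    rcases S.q_eq.1 (e.injective hc) with h | h
    · exact S.not_conj_twelve S.codes_P.2.1 hT.2.1 d h
    · exact S.not_conj_twelve (hD.lt_mul S.codes_P.2.1 S.codes_P.1) hT.2.2.1 d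
        (by rw [hD.mul _ S.codes_P.2.1 _ S.codes_P.1]; exact h)
  have p5 : a * a * a = 1 := by
    rw [← map_mul, ← map_mul, map_eq_one_iff e e.injective, ← map_mul, ← map_mul, S.q_eq_one]
    exact Or.inl S.act.cube
  have p6 : a * z5 * a⁻¹ * z5 = z5 * (a * z5 * a⁻¹) := by
    rw [hf, ← he, ← map_mul, ← map_mul, hzdef, ← map_mul, ← map_mul]
    exact congrArg e (congrArg (q φ P) (Subtype.ext (hD.comm_s hn54.2.1)))
  have p7 : a * z5 * a⁻¹ ≠ z5 := by
    rw [hf, ← he, ne_eq, e.apply_eq_iff_eq, hzdef, S.q_eq]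
    rintro (h | h)
    · exact absurd (hD.inj _ hn54.2.1 _ (by norm_num) (h.trans hD.zc.symm)) (by norm_num)
    · have h' : φ 54 = φ (mmul 0 24 P.t) := by rw [hD.mul _ (by norm_num) _ S.codes_P.1, hD.zc]; exact h
      exact S.not_conj_twelve (hD.lt_mul (by norm_num) S.codes_P.1) hT.2.2.2.1 α (S.act.conj_s.trans h')
  obtain ⟨y, hy⟩ := five_data w p1 p2 p3 p4 a p5 p6 p7
  simp only [goodY, Bool.and_eq_true, decide_eq_true_eq, List.any_eq_true] at hy
  obtain ⟨⟨⟨⟨y1, y3⟩, ywc⟩, ys⟩, ⟨⟨⟨y5, y51⟩, yuniq⟩, v, hv, hinv⟩⟩ := hy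
  obtain ⟨y₀, hy₀⟩ := QuotientGroup.mk'_surjective (Subgroup.zpowers (tR φ P)) (e.symm y)
  set Y : ↥(RSub φ P) := y₀ ^ 4
  have heY : e (q φ P Y) = y := by
    rw [map_pow, map_pow, show q φ P y₀ = e.symm y from hy₀, MulEquiv.apply_symm_apply,
      show y ^ 4 = y * y * y * y by simp [pow_succ, mul_assoc], y3, one_mul]
  have hY3 : (Y : G) * Y * Y = 1 := by
    have h6 : y₀ ^ 6 = 1 := by
      have h1 : q φ P (y₀ ^ 3) = 1 := by
        rw [← map_eq_one_iff e e.injective, map_pow, map_pow, show q φ P y₀ = e.symm y from hy₀,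
          MulEquiv.apply_symm_apply, pow_succ, pow_two, y3]
      rw [show y₀ ^ 6 = y₀ ^ 3 * y₀ ^ 3 by rw [← pow_add]]
      rcases S.q_eq_one.1 h1 with h | h
      · exact Subtype.ext (by rw [Subgroup.coe_mul, h, one_mul]; rfl)
      · exact Subtype.ext (by rw [Subgroup.coe_mul, h, S.tt.1]; rfl)
    have : Y * Y * Y = 1 := by
      rw [← pow_add, ← pow_add, show 4 + 4 + 4 = 6 * 2 from rfl, pow_mul, h6, one_pow]
    exact congrArg Subtype.val this
  have hY1 : (Y : G) ≠ 1 := fun h => y1 (by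
    rw [← heY, show Y = 1 from Subtype.ext h, map_one, map_one])
  have hYt : (Y : G) * φ P.t = φ P.t * Y := Subgroup.mem_centralizer_singleton_iff.1 Y.2
  have hYa : (Y : G) * φ P.a = φ P.a * Y := by
    have h : q φ P (Y * aP) = q φ P (aP * Y) := e.injective (by simp only [map_mul, heY]; exact ywc.symm)
    rcases S.q_eq.1 h with h | h
    · exact h
    · exfalso
      simp only [Subgroup.coe_mul] at h
      have h1 : (Y : G) * φ P.a * (Y : G)⁻¹ = φ P.a * φ P.t := by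
        rw [h, mul_assoc (φ P.a), hYt]; group
      have h2 : (Y : G) * φ P.t * (Y : G)⁻¹ = φ P.t := mul_inv_eq_iff_eq_mul.2 hYt
      have step : ∀ x : G, (Y : G) * (x * φ P.t) * (Y : G)⁻¹ = (Y : G) * x * (Y : G)⁻¹ * φ P.t := fun x => by
        calc (Y : G) * (x * φ P.t) * (Y : G)⁻¹ = (Y : G) * x * (Y : G)⁻¹ * ((Y : G) * φ P.t * (Y : G)⁻¹) := by group
          _ = _ := by rw [h2]
      have h3 : φ P.a = φ P.a * φ P.t := by
        calc φ P.a = (Y : G) * Y * Y * φ P.a * ((Y : G) * Y * Y)⁻¹ := by rw [hY3]; group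
          _ = (Y : G) * ((Y : G) * ((Y : G) * φ P.a * (Y : G)⁻¹) * (Y : G)⁻¹) * (Y : G)⁻¹ := by group
          _ = φ P.a * φ P.t * φ P.t * φ P.t := by rw [h1, step, h1, step, step, h1]
          _ = _ := by rw [mul_assoc (φ P.a * φ P.t), S.tt.1, mul_one]
      exact S.tt.2 (mul_eq_left.1 h3.symm)
  have hnosq : ∀ g : G, g * g ≠ φ P.t := fun g hg => S.no_sqrt e he into_cent5 hg
  have hYs : (Y : G) * s * ((Y : G) * s) = 1 := by
    have h : q φ P (Y * ⟨s, S.s_mem⟩ * (Y * ⟨s, S.s_mem⟩)) = 1 := by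
      rw [← map_eq_one_iff e e.injective]
      simp only [map_mul, heY, ← hzdef, he]
      exact ys
    exact (S.q_eq_one.1 h).resolve_right (hnosq _)
  obtain ⟨hx3, hxW, hxt⟩ := S.x_P
  have hxl := S.codes_P.2.2.1
  have hX3 : φ P.x * φ P.x * φ P.x = 1 := by
    rw [← hD.mul _ hxl _ hxl, ← hD.mul _ (hD.lt_mul hxl hxl) _ hxl, hx3, hD.one]
  have hYX : (Y : G) * φ P.x = φ P.x * Y := by
    set X := φ P.x
    have hW : ∀ n ∈ [P.t, P.a, mmul 0 P.a P.t], (Y : G) * φ n = φ n * Y := by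
      intro n hn
      simp only [List.mem_cons, List.not_mem_nil, or_false] at hn
      rcases hn with rfl | rfl | rfl
      · exact hYt
      · exact hYa
      · rw [hD.mul _ S.codes_P.2.1 _ S.codes_P.1, ← mul_assoc, hYa, mul_assoc, hYt, mul_assoc]
    have hc : ∀ n ∈ [P.t, P.a], n < 192 → X * Y * X⁻¹ * φ n = φ n * (X * Y * X⁻¹) := by
      intro n hn hn'
      have e2 := hW _ (hxW n hn)
      rw [hD.conj (hD.lt_inv hxl) hn', hD.inv hxl, inv_inv] at e2
      calc X * Y * X⁻¹ * φ n = X * ((Y : G) * (X⁻¹ * φ n * X)) * X⁻¹ := by group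
        _ = X * ((X⁻¹ * φ n * X) * Y) * X⁻¹ := by rw [e2]
        _ = _ := by group
    have hm : X * Y * X⁻¹ ∈ RSub φ P :=
      Subgroup.mem_centralizer_singleton_iff.2 (hc _ (by simp) S.codes_P.1)
    have h3 : X * Y * X⁻¹ * (X * Y * X⁻¹) * (X * Y * X⁻¹) = 1 := by
      rw [show X * Y * X⁻¹ * (X * Y * X⁻¹) * (X * Y * X⁻¹) = X * ((Y : G) * Y * Y) * X⁻¹ by group, hY3]; group
    have hmem := yuniq (e (q φ P ⟨_, hm⟩)) (by
      rw [← map_mul, ← map_mul, map_eq_one_iff e e.injective, ← map_mul, ← map_mul, S.q_eq_one]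
      exact Or.inl h3) (by
      rw [← map_mul, ← map_mul, ← map_mul, ← map_mul]
      exact congrArg e (congrArg (q φ P) (Subtype.ext (hc _ (by simp) S.codes_P.2.1).symm)))
    rcases hmem with h | h | h
    · exfalso
      have e1 := S.odd_lift hm (RSub φ P).one_mem h3 (by simp) (e.injective (h.trans (by
        rw [show (⟨1, (RSub φ P).one_mem⟩ : ↥(RSub φ P)) = 1 from rfl, map_one, map_one])))
      exact hY1 (conj_eq_one_iff.1 e1)
    · exact (mul_inv_eq_iff_eq_mul.1 (S.odd_lift hm Y.2 h3 hY3 (e.injective (h.trans heY.symm)))).symm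
    · exfalso
      have e1 := S.odd_lift hm ((RSub φ P).inv_mem Y.2) h3
        (by rw [← mul_inv_rev, ← mul_inv_rev, ← mul_assoc, hY3, inv_one])
        (e.injective (h.trans (by
          rw [show (⟨(Y : G)⁻¹, (RSub φ P).inv_mem Y.2⟩ : ↥(RSub φ P)) = Y⁻¹ from rfl, map_inv, map_inv, heY])))
      refine hY1 ?_
      have e2 : (Y : G) = (Y : G)⁻¹ := by
        calc (Y : G) = X * X * X * Y * (X * X * X)⁻¹ := by rw [hX3]; group
          _ = X * (X * (X * Y * X⁻¹) * X⁻¹) * X⁻¹ := by group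
          _ = X * (X * (Y : G)⁻¹ * X⁻¹) * X⁻¹ := by rw [e1]
          _ = X * (X * Y * X⁻¹)⁻¹ * X⁻¹ := by group
          _ = X * Y * X⁻¹ := by rw [show (X * Y * X⁻¹)⁻¹ = Y by rw [e1, inv_inv]]
          _ = _ := e1
      have e3 : (Y : G) * Y = 1 := mul_eq_one_iff_eq_inv.2 e2
      have e4 := hY3
      rwa [e3, one_mul] at e4
  have hv' : ∃ vR : ↥(RSub φ P), e (q φ P vR) = v ∧ ((vR : G) = 1 ∨ ∃ n ∈ fourList, φ n = (vR : G)) := by
    simp only [List.mem_cons, List.not_mem_nil, or_false] at hv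
    rcases hv with rfl | rfl | rfl | rfl
    · exact ⟨1, by rw [map_one, map_one], Or.inl rfl⟩
    · exact ⟨⟨s, S.s_mem⟩, he, Or.inr ⟨24, by simp [fourList], hD.zc⟩⟩
    · exact ⟨fR, hf.symm, Or.inr ⟨54, by simp [fourList], rfl⟩⟩
    · refine ⟨⟨s, S.s_mem⟩ * fR, by rw [map_mul, map_mul, ← hzdef, he, hf], Or.inr ⟨78, by simp [fourList], ?_⟩⟩
      show φ 78 = s * φ 54
      rw [← hD.zc, ← hD.mul _ (by norm_num) _ (by norm_num)]
      exact congrArg φ (by decide +kernel)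
  obtain ⟨vR, hvR, hvfour⟩ := hv'
  have S' := S.shift hvfour
  refine ⟨α * (vR : G), Y, Y.2, S', ⟨hY3, hYs, hYt, hYa, hYX, ?_⟩, e, he, ?_, fR, rfl, ?_⟩
  · have h : q φ P (aR * vR * Y * (aR * vR * Y)) = 1 := by
      rw [← map_eq_one_iff e e.injective]
      simp only [map_mul, hvR, heY]
      exact hinv
    exact (S.q_eq_one.1 h).resolve_right (hnosq _)
  · haveI : Fact (Nat.Prime 3) := ⟨Nat.prime_three⟩
    rw [← e.orderOf_eq, show e (q φ P ⟨(Y : G), Y.2⟩) = y from heY]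
    exact orderOf_eq_prime (by rw [pow_succ, pow_two, y3]) y1
  · haveI : Fact (Nat.Prime 5) := ⟨Nat.prime_five⟩
    rw [← e.orderOf_eq, map_mul, show e (q φ P ⟨(Y : G), Y.2⟩) = y from heY, ← hf]
    refine orderOf_eq_prime ?_ y51
    rw [show ∀ b : Equiv.Perm (Fin 5), b ^ 5 = b * b * b * b * b from fun b => by simp [pow_succ, mul_assoc]]
    exact y5

end Std

end CfsgQS3.Zero
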