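import Cfsg.Agent.Lib.QS3.Zero.Common
import Cfsg.Agent.S0213
import Mathlib.GroupTheory.GroupAction.Quotient

/-!
Groups with an involution centraliser `Q.S₃`: the quotient is not symmetric of degree four.
-/

set_option autoImplicit false
set_option maxRecDepth 100000
set_option linter.unusedSectionVars false

namespace CfsgQS3.Zero

theorem out_lists : (outA.all fun c => decide (c < 192) && mmul 0 c 78 != mmul 0 78 c &&
    (isInv 0 c && !isTwelve c || c == 24)) = true ∧
    (outB.all fun c => decide (c < 192) && mmul 0 c 54 != mmul 0 54 c &&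
    (isInv 0 c && !isTwelve c || c == 24)) = true ∧
    (uList.all fun c => decide (c < 192) && (isInv 0 c && !isTwelve c || c == 24)) = true := by decide +kernel

namespace Std

variable {G : Type*} [Group G] {s : G} {φ : ℕ → G} {P : Par} {α : G} (S : Std s φ P α)
include S

theorem inU_list {n : ℕ} (hn : n < 192) (h : (isInv 0 n && !isTwelve n || n == 24) = true) : InU s φ n := by
  by_cases h24 : n = 24
  · exact ⟨1, by rw [h24, S.dat.zc]; group⟩
  simp only [Bool.or_eq_true, Bool.and_eq_true, Bool.not_eq_true', beq_iff_eq, h24, or_false] at h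
  rcases S.code_class hn h.1 with ⟨-, hU⟩ | ⟨h12, -⟩
  · exact hU
  · rw [h.2] at h12; cases h12

variable [Finite G]

/-- At least sixty-four conjugates of `s`. -/
theorem many_conjugates : 64 ≤ (Subgroup.centralizer ({s} : Set G)).index := by
  classical
  haveI := Fintype.ofFinite G
  have hD := S.dat
  obtain ⟨lA, lB, lU⟩ := out_lists
  simp only [List.all_eq_true, Bool.and_eq_true, decide_eq_true_eq, bne_iff_ne, ne_eq] at lA lB lU
  let U : Finset G := Finset.univ.filter fun u => IsConj s u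
  have mem : ∀ (g : G) (c : ℕ), c < 192 → InU s φ c → g * φ c * g⁻¹ ∈ U := fun g c _ hU => by
    obtain ⟨d, hd⟩ := hU
    exact Finset.mem_filter.2 ⟨Finset.mem_univ _, isConj_iff.2 ⟨g * d, by rw [← hd]; group⟩⟩
  have comm_conj : ∀ (g a b : G), a * b = b * a → g * a * g⁻¹ * (g * b * g⁻¹) = g * b * g⁻¹ * (g * a * g⁻¹) :=
    fun g a b e => by
      calc g * a * g⁻¹ * (g * b * g⁻¹) = g * (a * b) * g⁻¹ := by group
        _ = _ := by rw [e]; group
  have hr : φ 54 = α * s * α⁻¹ := S.act.conj_s.symm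
  have hrs : φ 78 = α⁻¹ * s * α := S.α_inv.symm
  have h78r : α * φ 78 * α⁻¹ = s := by rw [hrs]; group
  have h54rs : α⁻¹ * φ 54 * α = s := by rw [hr]; group
  let A : Finset G := outA.toFinset.image fun c => α * φ c * α⁻¹
  let B : Finset G := outB.toFinset.image fun c => α⁻¹ * φ c * α
  let H : Finset G := uList.toFinset.image φ
  have hH : ∀ u ∈ H, u * s = s * u := by
    intro u hu
    obtain ⟨c, hc, rfl⟩ := Finset.mem_image.1 hu
    exact hD.comm_s (lU c (List.mem_toFinset.1 hc)).1
  have hA : ∀ u ∈ A, u * φ 54 = φ 54 * u ∧ u * s ≠ s * u := by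
    intro u hu
    obtain ⟨c, hc, rfl⟩ := Finset.mem_image.1 hu
    obtain ⟨⟨hc', hne⟩, -⟩ := lA c (List.mem_toFinset.1 hc)
    refine ⟨?_, fun e => hne ((hD.commute_iff hc' (by norm_num)).1 ?_)⟩
    · rw [hr]; exact comm_conj _ _ _ (hD.comm_s hc')
    · have := comm_conj α⁻¹ _ _ e
      rw [inv_inv, show α⁻¹ * (α * φ c * α⁻¹) * α = φ c by group, ← hrs] at this
      exact this
  have hB : ∀ u ∈ B, u * φ 78 = φ 78 * u ∧ u * s ≠ s * u := by
    intro u hu
    obtain ⟨c, hc, rfl⟩ := Finset.mem_image.1 hu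
    obtain ⟨⟨hc', hne⟩, -⟩ := lB c (List.mem_toFinset.1 hc)
    refine ⟨?_, fun e => hne ((hD.commute_iff hc' (by norm_num)).1 ?_)⟩
    · rw [hrs]
      have := comm_conj α⁻¹ _ _ (hD.comm_s hc')
      rwa [inv_inv] at this
    · have := comm_conj α _ _ e
      rw [show α * (α⁻¹ * φ c * α) * α⁻¹ = φ c by group, ← hr] at this
      exact this
  have sprod : φ 54 * φ 78 = s := by
    rw [← hD.mul _ (by norm_num) _ (by norm_num), ← hD.zc]
    exact congrArg φ (by decide +kernel)
  have hAB : ∀ u ∈ A, u ∉ B := fun u ha hb => (hA u ha).2 (by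
    rw [← sprod, ← mul_assoc, (hA u ha).1, mul_assoc, (hB u hb).1, ← mul_assoc])
  -- one more
  have he := S.all_par extra_chk
  simp only [extraChk, List.any_eq_true, Bool.and_eq_true, List.contains_iff_mem, decide_eq_true_eq, bne_iff_ne,
    ne_eq] at he
  obtain ⟨h, hh, ⟨hx, hx'⟩, c, hc, ⟨⟨⟨⟨hy, hy'⟩, hyl⟩, hyl'⟩, hne1⟩, hne2⟩ := he
  have hh' := List.mem_range.1 hh
  obtain ⟨⟨hc', hc78⟩, hcU⟩ := lA c hc
  set u := φ h * (α * φ c * α⁻¹) * (φ h)⁻¹ with hu
  have hback : ∀ w < 192, u * φ w = φ w * u →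
      mconj 0 (minv 0 h) w ∈ row0.cen → fap row0 P.ys (mconj 0 (minv 0 h) w) ∈ row0.cen →
      fap row0 P.ys (fap row0 P.ys (mconj 0 (minv 0 h) w)) < 192 →
      mmul 0 c (fap row0 P.ys (fap row0 P.ys (mconj 0 (minv 0 h) w))) =
        mmul 0 (fap row0 P.ys (fap row0 P.ys (mconj 0 (minv 0 h) w))) c := by
    intro w hw e hm hm2 hl
    refine (hD.commute_iff hc' hl).1 ?_
    have e1 := comm_conj (φ h)⁻¹ _ _ e
    rw [inv_inv, hu, show (φ h)⁻¹ * (φ h * (α * φ c * α⁻¹) * (φ h)⁻¹) * φ h = α * φ c * α⁻¹ by group,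
      ← inv_inv (φ h), ← hD.inv hh', inv_inv, ← inv_inv (φ (minv 0 h))] at e1
    rw [inv_inv, ← hD.conj (hD.lt_inv hh') hw] at e1
    have e2 := comm_conj α⁻¹ _ _ e1
    rw [inv_inv, show α⁻¹ * (α * φ c * α⁻¹) * α = φ c by group] at e2
    rw [← S.act.act _ hm2, ← S.act.act _ hm]
    have h3 : α⁻¹ = α * α := (eq_inv_of_mul_eq_one_left S.act.cube).symm
    have e3 : α * (α * φ (mconj 0 (minv 0 h) w) * α⁻¹) * α⁻¹ = α⁻¹ * φ (mconj 0 (minv 0 h) w) * α := by
      calc α * (α * φ (mconj 0 (minv 0 h) w) * α⁻¹) * α⁻¹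
          = α * α * φ (mconj 0 (minv 0 h) w) * (α * α)⁻¹ := by group
        _ = _ := by rw [← h3, inv_inv]
    rw [e3]
    exact e2
  have hu54 : u * φ 54 ≠ φ 54 * u := fun e => hne1 (hback 54 (by norm_num) e hx hy hyl)
  have hu78 : u * φ 78 ≠ φ 78 * u := fun e => hne2 (hback 78 (by norm_num) e hx' hy' hyl')
  have hus : u * s ≠ s * u := by
    intro e
    refine hc78 ((hD.commute_iff hc' (by norm_num)).1 ?_)
    have e1 := comm_conj (φ h)⁻¹ _ _ e
    rw [inv_inv, hu, show (φ h)⁻¹ * (φ h * (α * φ c * α⁻¹) * (φ h)⁻¹) * φ h = α * φ c * α⁻¹ by group,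
      show (φ h)⁻¹ * s * φ h = s by rw [mul_assoc, ← hD.comm_s hh']; group] at e1
    have e2 := comm_conj α⁻¹ _ _ e1
    rw [inv_inv, show α⁻¹ * (α * φ c * α⁻¹) * α = φ c by group, ← hrs] at e2
    exact e2
  have huU : u ∈ U := by
    rw [hu, show φ h * (α * φ c * α⁻¹) * (φ h)⁻¹ = φ h * α * φ c * (φ h * α)⁻¹ by group]
    exact mem _ c hc' (S.inU_list hc' hcU)
  have hsub : insert u (H ∪ (A ∪ B)) ⊆ U := by
    intro x hx
    simp only [Finset.mem_insert, Finset.mem_union, A, B, H, Finset.mem_image, List.mem_toFinset] at hx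
    rcases hx with rfl | ⟨c, hc, rfl⟩ | ⟨c, hc, rfl⟩ | ⟨c, hc, rfl⟩
    · exact huU
    · have := mem 1 c (lU c hc).1 (S.inU_list (lU c hc).1 (lU c hc).2)
      simpa using this
    · exact mem α c (lA c hc).1.1 (S.inU_list (lA c hc).1.1 (lA c hc).2)
    · have := mem α⁻¹ c (lB c hc).1.1 (S.inU_list (lB c hc).1.1 (lB c hc).2)
      rwa [inv_inv] at this
  have hcard : (insert u (H ∪ (A ∪ B))).card = 64 := by
    obtain ⟨sU, sA, sB, -⟩ := out_sizes
    have nd : ∀ l : List ℕ, l = uList ∨ l = outA ∨ l = outB → l.Nodup := by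
      rintro l (rfl | rfl | rfl)
      · exact List.nodup_range.filter _
      · exact (List.nodup_range.filter _).filter _
      · exact (List.nodup_range.filter _).filter _
    rw [Finset.card_insert_of_notMem, Finset.card_union_of_disjoint, Finset.card_union_of_disjoint]
    · simp only [A, B, H]
      rw [Finset.card_image_of_injOn, Finset.card_image_of_injOn, Finset.card_image_of_injOn,
        List.toFinset_card_of_nodup (nd _ (Or.inl rfl)), List.toFinset_card_of_nodup (nd _ (Or.inr (Or.inl rfl))),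
        List.toFinset_card_of_nodup (nd _ (Or.inr (Or.inr rfl))), sU, sA, sB]
      · intro a ha b hb e
        exact hD.inj _ (lB a (List.mem_toFinset.1 ha)).1.1 _ (lB b (List.mem_toFinset.1 hb)).1.1
          (mul_left_cancel (mul_right_cancel e))
      · intro a ha b hb e
        exact hD.inj _ (lA a (List.mem_toFinset.1 ha)).1.1 _ (lA b (List.mem_toFinset.1 hb)).1.1
          (mul_left_cancel (mul_right_cancel e))
      · intro a ha b hb e
        exact hD.inj _ (lU a (List.mem_toFinset.1 ha)).1 _ (lU b (List.mem_toFinset.1 hb)).1 e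
    · exact Finset.disjoint_left.2 hAB
    · refine Finset.disjoint_left.2 fun x hx hx' => ?_
      rcases Finset.mem_union.1 hx' with h' | h'
      · exact (hA x h').2 (hH x hx)
      · exact (hB x h').2 (hH x hx)
    · simp only [Finset.mem_union, not_or]
      exact ⟨fun h' => hus (hH u h'), fun h' => hu54 (hA u h').1, fun h' => hu78 (hB u h').1⟩
  have hUcard : U.card ≤ (Subgroup.centralizer ({s} : Set G)).index := by
    rw [Subgroup.index_eq_card, Nat.card_eq_fintype_card]
    have hpre : ∀ v ∈ U, ∃ g : G, g * s * g⁻¹ = v := fun v hv => isConj_iff.1 (Finset.mem_filter.1 hv).2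
    choose f hf using hpre
    rw [← Finset.card_univ]
    refine Finset.card_le_card_of_injOn (fun v => if hv : v ∈ U then ((f v hv : G) : G ⧸ _) else
      ((1 : G) : G ⧸ Subgroup.centralizer ({s} : Set G))) (fun _ _ => Finset.mem_coe.2 (Finset.mem_univ _)) ?_
    intro v hv w hw e
    rw [Finset.mem_coe] at hv hw
    simp only [hv, hw, dif_pos] at e
    rw [QuotientGroup.eq, Subgroup.mem_centralizer_singleton_iff] at e
    rw [← hf v hv, ← hf w hw]
    calc f v hv * s * (f v hv)⁻¹ = f v hv * (s * ((f v hv)⁻¹ * f w hw)) * (f w hw)⁻¹ := by group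
      _ = f v hv * (((f v hv)⁻¹ * f w hw) * s) * (f w hw)⁻¹ := by rw [e]
      _ = _ := by group
  have := Finset.card_le_card hsub
  omega

/-- The quotient is not symmetric of degree four. -/
theorem not_four : ¬ Nonempty (RBar φ P ≃* Equiv.Perm (Fin 4)) := by
  classical
  intro hfour
  have hD := S.dat
  obtain ⟨e, he⟩ := S.normalise z4 dt4 hfour
  set z := q φ P ⟨s, S.s_mem⟩
  have hn54 := S.twelves_P.2.2.2.2.2.2 54 (by simp [fourList])
  -- the elements of the four group and their products with the fixed element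
  have hfour' : ∀ u : G, IsConj s u → u ∈ RSub φ P → ∃ n ∈ fourList, φ n = u := by
    intro u hu huR
    obtain ⟨g, hg⟩ := isConj_iff.1 hu
    have huu : u * u = 1 := by
      rw [← hg, show g * s * g⁻¹ * (g * s * g⁻¹) = g * (s * s) * g⁻¹ by group, hD.s_sq]; group
    obtain ⟨c, k, hk, hk'⟩ := S.into_cent e he into_cent4 (g := ⟨u, huR⟩) (by
      rw [← map_mul, S.q_eq_one]; exact Or.inl huu)
    have hk24 : k ∈ fourList := by
      have hkU : InU s φ k := ⟨c * g, by
        rw [hk']
        calc (c : G) * g * s * ((c : G) * g)⁻¹ = (c : G) * (g * s * g⁻¹) * (c : G)⁻¹ := by group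
          _ = (c : G) * u * (c : G)⁻¹ := by rw [hg]⟩
      have hk'' := (mem_mcent.1 hk).1
      by_cases h24 : k = 24
      · simp [fourList, h24]
      rcases (S.cent_t k hk).2 (hD.inU_isInv hk'' hkU h24) with h | h
      · exact absurd hkU (hD.not_inU_twelve hk'' h)
      · exact h
    set f := q φ P ⟨φ 54, S.mem_R hn54.2.1 hn54.2.2⟩
    set aR : ↥(RSub φ P) := ⟨α, S.α_mem⟩
    have hf : e f = e (q φ P aR) * z4 * (e (q φ P aR))⁻¹ := by
      rw [← he, ← map_inv, ← map_mul, ← map_mul, ← map_inv, ← map_mul, ← map_mul]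
      exact congrArg e (congrArg (q φ P) (Subtype.ext S.act.conj_s.symm))
    -- each element of the four group is conjugate to the image of `s`
    have hkc : ∀ n (hn : n ∈ fourList), ∃ d : ↥(RSub φ P),
        (d : G) * s * (d : G)⁻¹ = φ n := by
      intro n hn
      simp only [fourList, List.mem_cons, List.not_mem_nil, or_false] at hn
      rcases hn with rfl | rfl | rfl
      · exact ⟨1, by simp [hD.zc]⟩
      · exact ⟨aR, S.act.conj_s⟩
      · exact ⟨aR⁻¹, by simp only [Subgroup.coe_inv, inv_inv]; exact S.α_inv⟩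
    obtain ⟨d, hd⟩ := hkc k hk24
    have hconj : e (q φ P ⟨u, huR⟩) = e (q φ P (c⁻¹ * d)) * z4 * (e (q φ P (c⁻¹ * d)))⁻¹ := by
      rw [← he, ← map_inv, ← map_mul, ← map_mul, ← map_inv, ← map_mul, ← map_mul]
      refine congrArg e (congrArg (q φ P) (Subtype.ext ?_))
      show u = (c : G)⁻¹ * d * s * ((c : G)⁻¹ * d)⁻¹
      rw [show (c : G)⁻¹ * d * s * ((c : G)⁻¹ * d)⁻¹ = (c : G)⁻¹ * ((d : G) * s * (d : G)⁻¹) * c by group, hd, hk']
      group
    have hfz : e f ≠ z4 := by
      rw [← he, ne_eq, e.apply_eq_iff_eq, S.q_eq]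
      rintro (h | h)
      · exact absurd (hD.inj _ hn54.2.1 _ (by norm_num) (h.trans hD.zc.symm)) (by norm_num)
      · have h' : φ 54 = φ (mmul 0 24 P.t) := by rw [hD.mul _ (by norm_num) _ S.codes_P.1, hD.zc]; exact h
        exact S.not_conj_twelve (hD.lt_mul (by norm_num) S.codes_P.1) S.twelves_P.2.2.2.1 α
          (S.act.conj_s.trans h')
    have hfc : e f * z4 = z4 * e f := by
      rw [← he, ← map_mul, ← map_mul, ← map_mul, ← map_mul]
      exact congrArg e (congrArg (q φ P) (Subtype.ext (hD.comm_s hn54.2.1)))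
    have := class4 (e (q φ P aR)) (hf ▸ hfz) (by rw [← hf]; exact hfc) (e (q φ P (c⁻¹ * d)))
    rw [← hconj, ← hf] at this
    simp only [List.mem_cons, List.not_mem_nil, or_false] at this
    have key : ∃ n ∈ fourList, ∃ hn : n < 192, ∃ hnt : mmul 0 n P.t = mmul 0 P.t n,
        q φ P ⟨u, huR⟩ = q φ P ⟨φ n, S.mem_R hn hnt⟩ := by
      rcases this with h | h | h
      · refine ⟨24, by simp [fourList], by norm_num, (S.twelves_P.2.2.2.2.2.2 24 (by simp [fourList])).2.2, ?_⟩
        refine e.injective (h.trans ?_)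
        rw [← he]
        exact congrArg e (congrArg (q φ P) (Subtype.ext hD.zc.symm))
      · exact ⟨54, by simp [fourList], hn54.2.1, hn54.2.2, e.injective h⟩
      · refine ⟨78, by simp [fourList], by norm_num, (S.twelves_P.2.2.2.2.2.2 78 (by simp [fourList])).2.2, ?_⟩
        refine e.injective (h.trans ?_)
        rw [← he, ← map_mul, ← map_mul]
        refine congrArg e (congrArg (q φ P) (Subtype.ext ?_))
        show s * φ 54 = φ 78
        rw [← hD.zc, ← hD.mul _ (by norm_num) _ (by norm_num)]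
        exact congrArg φ (by decide +kernel)
    obtain ⟨n, hn, hn', hnt, heq⟩ := key
    refine ⟨n, hn, ?_⟩
    rcases S.q_eq.1 heq with h | h
    · exact h.symm
    · exfalso
      refine S.not_conj_twelve (hD.lt_mul hn' S.codes_P.1) (S.twelves_P.2.2.2.2.2.2 n hn).1 g ?_
      rw [hg, hD.mul _ hn' _ S.codes_P.1]
      exact h
  have hcardR : Nat.card ↥(RSub φ P) = 48 := by
    rw [Subgroup.card_eq_card_quotient_mul_card_subgroup (Subgroup.zpowers (tR φ P)),
      show Nat.card (↥(RSub φ P) ⧸ Subgroup.zpowers (tR φ P)) = Nat.card (Equiv.Perm (Fin 4)) from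
        Nat.card_congr e.toEquiv, Nat.card_perm, Nat.card_fin, Nat.card_zpowers,
      ← Subgroup.orderOf_coe, show ((tR φ P : ↥(RSub φ P)) : G) = φ P.t from rfl, S.t_order]
    rfl
  have hform := Cfsg.Agent.S0213.result s (φ P.t) S.s_order S.t_order S.not_isConj fun x hx => S.two_classes hx
  -- pairs through `s`
  have n1 : Nat.card {p : G × G // IsConj s p.1 ∧ IsConj (φ P.t) p.2 ∧ s ∈ Subgroup.zpowers (p.1 * p.2)} ≤ 240 := by
    haveI := Fintype.ofFinite G
    rw [Nat.card_eq_fintype_card, Fintype.card_subtype]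
    refine le_trans (Finset.card_le_card ?_)
      ((Finset.card_image_le (s := nPairs.toFinset) (f := fun p : ℕ × ℕ => (φ p.1, φ p.2))).trans
        ((List.toFinset_card_le _).trans nPairs_card))
    rintro ⟨u, v⟩ huv
    obtain ⟨hu, hv, hs⟩ := (Finset.mem_filter.1 huv).2
    obtain ⟨g, hg : g * s * g⁻¹ = u⟩ := isConj_iff.1 hu
    obtain ⟨g', hg' : g' * φ P.t * g'⁻¹ = v⟩ := isConj_iff.1 hv
    have huu : u * u = 1 := by
      rw [← hg, show g * s * g⁻¹ * (g * s * g⁻¹) = g * (s * s) * g⁻¹ by group, hD.s_sq]; group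
    have hvv : v * v = 1 := by
      rw [← hg', show g' * φ P.t * g'⁻¹ * (g' * φ P.t * g'⁻¹) = g' * (φ P.t * φ P.t) * g'⁻¹ by group, S.tt.1]; group
    obtain ⟨i, hi⟩ := Subgroup.mem_zpowers_iff.1 hs
    have hus : u * s * u⁻¹ = s := by
      rw [← hi, CfsgLib.Involutions.conj_zpow_eq_inv huu hvv, zpow_neg, hi, inv_eq_of_mul_eq_one_right hD.s_sq]
    have hus' : u * s = s * u := mul_inv_eq_iff_eq_mul.1 hus
    have hvs : v * s = s * v := by
      have h1 : u * v * s = s * (u * v) := by
        rw [← hi]; exact ((Commute.refl (u * v)).zpow_right i).eq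
      calc v * s = u * (u * v * s) := by rw [mul_assoc u v s, ← mul_assoc u u, huu, one_mul]
        _ = (u * s) * u * v := by rw [h1]; group
        _ = s * (u * u) * v := by rw [hus']; group
        _ = _ := by rw [huu, mul_one]
    obtain ⟨a, ha, rfl⟩ := (hD.cent u).1 hus'
    obtain ⟨b, hb, rfl⟩ := (hD.cent v).1 hvs
    refine Finset.mem_image.2 ⟨(a, b), List.mem_toFinset.2 ?_, rfl⟩
    have haU : a ∈ uList := by
      rw [uList, List.mem_filter]
      refine ⟨List.mem_range.2 ha, ?_⟩
      by_cases h24 : a = 24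
      · simp [h24]
      have h12 : isTwelve a = false := by
        by_contra h
        exact S.not_conj_twelve ha (by simpa using h) g hg
      simp [hD.inU_isInv ha ⟨g, hg⟩ h24, h12]
    have hbT : b ∈ tList := by
      rw [tList, List.mem_filter]
      refine ⟨List.mem_range.2 hb, ?_⟩
      have hb24 : b ≠ 24 := fun h => S.not_isConj (isConj_iff.2 ⟨g'⁻¹, by
        rw [h, hD.zc] at hg'; rw [← hg']; group⟩)
      have hb0 : b ≠ 0 := fun h => S.tt.2 (by
        rw [h, hD.one] at hg'; exact conj_eq_one_iff.1 hg')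
      rcases S.code_class hb (by simp [isInv, hb0, hb24, (hD.sq_iff hb).1 hvv]) with ⟨-, d, hd⟩ | ⟨h, -⟩
      · exact absurd (isConj_iff.2 ⟨g'⁻¹ * d, by rw [← hg'] at hd
                                                 calc g'⁻¹ * d * s * (g'⁻¹ * d)⁻¹ = g'⁻¹ * (d * s * d⁻¹) * g' := by group
                                                   _ = φ P.t := by rw [hd]; group⟩) S.not_isConj
      · exact h
    rw [nPairs, List.mem_filter]
    refine ⟨List.pair_mem_product.2 ⟨haU, hbT⟩, ?_⟩
    simp only [List.any_eq_true, beq_iff_eq, List.mem_range]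
    have hper := List.all_eq_true.1 prod_period (a, b) (List.pair_mem_product.2 ⟨haU, hbT⟩)
    simp only [beq_iff_eq] at hper
    have hq := hD.lt_mul ha hb
    have h8 : (φ a * φ b) ^ 8 = 1 := by
      have hq2 := hD.lt_mul hq hq
      have hq4 := hD.lt_mul hq2 hq2
      have e8 := congrArg φ hper
      rw [hD.one, hD.mul _ hq4 _ hq4, hD.mul _ hq2 _ hq2, hD.mul _ hq _ hq, hD.mul _ ha _ hb] at e8
      simpa [pow_succ, mul_assoc] using e8
    refine ⟨(i % 8).toNat, by omega, ?_⟩
    have hrep : ∀ m : ℕ, φ (mword 0 (List.replicate m (mmul 0 a b))) = (φ a * φ b) ^ m ∧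
        mword 0 (List.replicate m (mmul 0 a b)) < 192 := by
      intro m
      obtain ⟨e1, l1⟩ := hD.mword_eq (List.replicate m (mmul 0 a b)) fun x hx => (List.eq_of_mem_replicate hx) ▸ hq
      exact ⟨by rw [e1, List.map_replicate, List.prod_replicate, hD.mul _ ha _ hb], l1⟩
    obtain ⟨e1, l1⟩ := hrep (i % 8).toNat
    refine hD.inj _ l1 _ (by norm_num) ?_
    rw [e1, hD.zc, ← hi, ← zpow_natCast, Int.toNat_of_nonneg (Int.emod_nonneg _ (by norm_num))]
    exact (zpow_eq_zpow_emod' i h8).symm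
  -- pairs through the fixed element
  have n2 : Nat.card {p : G × G // IsConj s p.1 ∧ IsConj (φ P.t) p.2 ∧ φ P.t ∈ Subgroup.zpowers (p.1 * p.2)} ≤ 3 := by
    haveI := Fintype.ofFinite G
    rw [Nat.card_eq_fintype_card, Fintype.card_subtype]
    refine le_trans (Finset.card_le_card ?_)
      ((Finset.card_image_le (s := fourList.toFinset) (f := fun n => (φ n, φ n * φ P.t))).trans
        ((List.toFinset_card_le _).trans (le_of_eq rfl)))
    rintro ⟨u, v⟩ huv
    obtain ⟨hu, hv, hs⟩ := (Finset.mem_filter.1 huv).2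
    obtain ⟨g, hg : g * s * g⁻¹ = u⟩ := isConj_iff.1 hu
    obtain ⟨g', hg' : g' * φ P.t * g'⁻¹ = v⟩ := isConj_iff.1 hv
    have huu : u * u = 1 := by
      rw [← hg, show g * s * g⁻¹ * (g * s * g⁻¹) = g * (s * s) * g⁻¹ by group, hD.s_sq]; group
    have hvv : v * v = 1 := by
      rw [← hg', show g' * φ P.t * g'⁻¹ * (g' * φ P.t * g'⁻¹) = g' * (φ P.t * φ P.t) * g'⁻¹ by group, S.tt.1]; group
    obtain ⟨i, hi⟩ := Subgroup.mem_zpowers_iff.1 hs
    have hut : u * φ P.t = φ P.t * u := mul_inv_eq_iff_eq_mul.1 (by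
      rw [← hi, CfsgLib.Involutions.conj_zpow_eq_inv huu hvv, zpow_neg, hi, inv_eq_of_mul_eq_one_right S.tt.1])
    have h1 : u * v * φ P.t = φ P.t * (u * v) := by
      rw [← hi]; exact ((Commute.refl (u * v)).zpow_right i).eq
    have hvt : v * φ P.t = φ P.t * v := by
      calc v * φ P.t = u * (u * v * φ P.t) := by rw [mul_assoc u v, ← mul_assoc u u, huu, one_mul]
        _ = (u * φ P.t) * u * v := by rw [h1]; group
        _ = φ P.t * (u * u) * v := by rw [hut]; group
        _ = _ := by rw [huu, mul_one]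
    have huR : u ∈ RSub φ P := Subgroup.mem_centralizer_singleton_iff.2 hut
    have hvR : v ∈ RSub φ P := Subgroup.mem_centralizer_singleton_iff.2 hvt
    obtain ⟨n, hn, rfl⟩ := hfour' u hu huR
    have hu' : IsConj s (v * φ n * v⁻¹) := hu.trans (isConj_iff.2 ⟨v, rfl⟩)
    obtain ⟨n', hn', hn''⟩ := hfour' _ hu' ((RSub φ P).mul_mem ((RSub φ P).mul_mem hvR huR) ((RSub φ P).inv_mem hvR))
    -- the square of the product lies in the four group
    have hvinv : v⁻¹ = v := inv_eq_of_mul_eq_one_right hvv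
    have hsq : (φ n * v) * (φ n * v) = φ (mmul 0 n n') := by
      rw [hD.mul _ (by simp [fourList] at hn; omega) _ (by simp [fourList] at hn'; omega), hn'', hvinv]
      group
    have hfl : mmul 0 n n' ∈ 0 :: fourList ∧ mmul 0 (mmul 0 n n') (mmul 0 n n') = 0 := by
      have hpairs : (fourList.all fun a => fourList.all fun b => (0 :: fourList).contains (mmul 0 a b) &&
          mmul 0 (mmul 0 a b) (mmul 0 a b) == 0) = true := by decide +kernel
      have h := List.all_eq_true.1 (List.all_eq_true.1 hpairs n hn) n' hn'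
      simp only [Bool.and_eq_true, List.contains_iff_mem, beq_iff_eq] at h
      exact h
    have hnlt : mmul 0 n n' < 192 := hD.lt_mul (by simp [fourList] at hn; omega) (by simp [fourList] at hn'; omega)
    set x := φ n * v
    have hx4 : x ^ 4 = 1 := by
      rw [show x ^ 4 = (x * x) * (x * x) by rw [← pow_two, ← pow_two, ← pow_mul], hsq,
        ← hD.mul _ hnlt _ hnlt, hfl.2, hD.one]
    rw [zpow_eq_zpow_emod' i hx4] at hi
    simp only [Nat.cast_ofNat] at hi
    have hne2 : x * x ≠ φ P.t := by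
      rw [hsq]
      intro h
      have h' := hD.inj _ hnlt _ S.codes_P.1 h
      have h12 := S.twelves_P.1
      rcases List.mem_cons.1 hfl.1 with h0 | h0
      · rw [← h', h0] at h12; simp [isTwelve, isInv] at h12
      · simp only [fourList, List.mem_cons, List.not_mem_nil, or_false] at h0
        rcases h0 with e1 | e1 | e1 <;> rw [← h', e1] at h12 <;> revert h12 <;> decide +kernel
    have hxt : x = φ P.t := by
      have hr : i % 4 = 0 ∨ i % 4 = 1 ∨ i % 4 = 2 ∨ i % 4 = 3 := by omega
      rcases hr with r | r | r | r <;> rw [r] at hi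
      · exact absurd ((zpow_zero x).symm.trans hi).symm S.tt.2
      · simpa using hi
      · exact absurd (by simpa [zpow_ofNat, pow_two] using hi) hne2
      · have e3 : x ^ 3 = φ P.t := by simpa [zpow_ofNat] using hi
        calc x = x ^ 4 * (x ^ 3)⁻¹ := by group
          _ = φ P.t := by rw [hx4, e3, one_mul]; exact inv_eq_of_mul_eq_one_right S.tt.1
    refine Finset.mem_image.2 ⟨n, List.mem_toFinset.2 hn, Prod.ext rfl ?_⟩
    show φ n * φ P.t = v
    rw [← hxt, ← mul_assoc, huu, one_mul]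
  have hidx := S.many_conjugates
  have hmul := (Subgroup.centralizer ({s} : Set G)).card_mul_index
  rw [hD.card_cent] at hmul
  rw [hcardR, hD.card_cent] at hform
  nlinarith

end Std

end CfsgQS3.Zero
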