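import Cfsg.Agent.Lib.QS3.Zero.M12

/-!
Groups with an involution centraliser `Q.S₃`: the coordinates inside the Mathieu group of degree twelve.
-/

set_option autoImplicit false
set_option maxRecDepth 100000
set_option linter.unusedSectionVars false

namespace CfsgQS3.Zero

open Equiv Cfsg CfsgGolay

theorem assoc_gens0 : ((List.range' 0 48).all fun x => codes.all fun y => [60, 2, 1].all fun g =>
    mmul 0 x (mmul 0 y g) == mmul 0 (mmul 0 x y) g) = true := by decide +kernel

theorem assoc_gens1 : ((List.range' 48 48).all fun x => codes.all fun y => [60, 2, 1].all fun g =>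
    mmul 0 x (mmul 0 y g) == mmul 0 (mmul 0 x y) g) = true := by decide +kernel

theorem assoc_gens2 : ((List.range' 96 48).all fun x => codes.all fun y => [60, 2, 1].all fun g =>
    mmul 0 x (mmul 0 y g) == mmul 0 (mmul 0 x y) g) = true := by decide +kernel

theorem assoc_gens3 : ((List.range' 144 48).all fun x => codes.all fun y => [60, 2, 1].all fun g =>
    mmul 0 x (mmul 0 y g) == mmul 0 (mmul 0 x y) g) = true := by decide +kernel

theorem assoc_gens : (codes.all fun x => codes.all fun y => [60, 2, 1].all fun g =>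
    mmul 0 x (mmul 0 y g) == mmul 0 (mmul 0 x y) g) = true := by
  have e : codes = List.range' 0 48 ++ List.range' 48 48 ++ List.range' 96 48 ++ List.range' 144 48 := by decide +kernel
  conv_lhs => arg 1; rw [e]
  simp only [List.all_append, Bool.and_eq_true]
  exact ⟨⟨⟨assoc_gens0, assoc_gens1⟩, assoc_gens2⟩, assoc_gens3⟩

theorem assoc0 {x y z : ℕ} (hx : x < 192) (hy : y < 192) (hz : z < 192) :
    mmul 0 x (mmul 0 y z) = mmul 0 (mmul 0 x y) z := by
  have hw := all_codes hWords_ok hz
  simp only [Bool.and_eq_true, beq_iff_eq, List.all_eq_true, decide_eq_true_eq] at hw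
  obtain ⟨e, hl⟩ := hw
  have hg : ∀ i < 3, hGens.getD i 0 < 192 ∧ hGens.getD i 0 ∈ [60, 2, 1] := by decide
  have hA : ∀ a < 192, ∀ b < 192, ∀ g, g ∈ [60, 2, 1] → mmul 0 a (mmul 0 b g) = mmul 0 (mmul 0 a b) g := by
    intro a ha b hb g hg
    exact beq_iff_eq.1 (List.all_eq_true.1 (List.all_eq_true.1 (List.all_eq_true.1 assoc_gens a
      (List.mem_range.2 ha)) b (List.mem_range.2 hb)) g hg)
  have key : ∀ l : List ℕ, (∀ i ∈ l, i < 3) →
      mmul 0 x (mmul 0 y (mword 0 (l.map fun i => hGens.getD i 0))) =
        mmul 0 (mmul 0 x y) (mword 0 (l.map fun i => hGens.getD i 0)) ∧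
      mword 0 (l.map fun i => hGens.getD i 0) < 192 := by
    intro l
    induction l using List.reverseRecOn with
    | nil =>
      intro _
      refine ⟨?_, by norm_num [mword]⟩
      simp only [List.map_nil, mword, List.foldl_nil, (minv_ok 0 (by norm_num) y hy).2.2.2.1,
        (minv_ok 0 (by norm_num) _ (mmul_lt (k := 0) (by norm_num) hx hy)).2.2.2.1]
    | append_singleton l i ih =>
      intro hl
      have hi := hg i (hl i (by simp))
      obtain ⟨ihe, hw⟩ := ih (fun j hj => hl j (List.mem_append_left _ hj))
      have e : mword 0 ((l ++ [i]).map fun i => hGens.getD i 0) =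
          mmul 0 (mword 0 (l.map fun i => hGens.getD i 0)) (hGens.getD i 0) := by simp [mword]
      refine ⟨?_, e ▸ mmul_lt (by norm_num) hw hi.1⟩
      have hyw := mmul_lt (k := 0) (by norm_num) hy hw
      rw [e, hA y hy _ hw _ hi.2, hA x hx _ hyw _ hi.2, ihe,
        hA _ (mmul_lt (by norm_num) hx hy) _ hw _ hi.2]
  have h := (key _ hl).1
  rwa [e] at h

theorem psi12_mul' : ∀ x < 192, ∀ y < 192, psi12 (mmul 0 x y) = psi12 x * psi12 y := by
  intro x hx y hy
  have hw := all_codes hWords_ok hy
  simp only [Bool.and_eq_true, beq_iff_eq, List.all_eq_true, decide_eq_true_eq] at hw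
  obtain ⟨e, hl⟩ := hw
  have hg : ∀ i < 3, hGens.getD i 0 < 192 ∧ hGens.getD i 0 ∈ [60, 2, 1] := by decide
  have key : ∀ l : List ℕ, (∀ i ∈ l, i < 3) → ∀ x < 192,
      psi12 (mmul 0 x (mword 0 (l.map fun i => hGens.getD i 0))) = psi12 x * wordVal p12 l ∧
        mword 0 (l.map fun i => hGens.getD i 0) < 192 := by
    intro l
    induction l using List.reverseRecOn with
    | nil =>
      intro _ x hx
      have hx0 : mmul 0 x (mword 0 []) = x := (minv_ok 0 (by norm_num) x hx).2.2.2.1
      refine ⟨?_, by norm_num [mword]⟩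
      simp only [List.map_nil, wordVal, List.prod_nil, mul_one, hx0]
    | append_singleton l i ih =>
      intro hl x hx
      have hi := hl i (by simp)
      obtain ⟨ihe, hA⟩ := ih (fun j hj => hl j (List.mem_append_left _ hj)) x hx
      have e : mword 0 ((l ++ [i]).map fun i => hGens.getD i 0) =
          mmul 0 (mword 0 (l.map fun i => hGens.getD i 0)) (hGens.getD i 0) := by simp [mword]
      refine ⟨?_, e ▸ mmul_lt (by norm_num) hA (hg i hi).1⟩
      have ha := List.all_eq_true.1 (List.all_eq_true.1 (List.all_eq_true.1 assoc_gens x (List.mem_range.2 hx)) _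
        (List.mem_range.2 hA)) _ (hg i hi).2
      rw [e, beq_iff_eq.1 ha]
      have h := all_codes psi12_step (mmul_lt (k := 0) (by norm_num) hx hA)
      simp only [List.all_eq_true, decide_eq_true_eq] at h
      rw [h i (by simp only [List.mem_cons, List.not_mem_nil, or_false]; omega), ihe]
      simp [wordVal, mul_assoc]
  have h1 := (key _ hl x hx).1
  rw [e] at h1
  exact h1

theorem wordVal_M12 {w : List ℕ} (h : ∀ i ∈ w, i < 10) : wordVal q12 w ∈ Spor.M12 := by
  refine Subgroup.list_prod_mem _ fun a ha => ?_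
  obtain ⟨i, hi, rfl⟩ := List.mem_map.1 ha
  unfold q12
  split_ifs with h5
  · exact mem_M12 h5
  · exact inv_mem (mem_M12 (by have := h i hi; omega))

theorem psi12_mem {x : ℕ} (hx : x < 192) : psi12 x ∈ Spor.M12 := by
  have hw := all_codes hWords_ok hx
  simp only [Bool.and_eq_true, beq_iff_eq, List.all_eq_true, decide_eq_true_eq] at hw
  refine Subgroup.list_prod_mem _ fun a ha => ?_
  obtain ⟨i, hi, rfl⟩ := List.mem_map.1 ha
  exact mem_M12 (by have := hw.2 i hi; omega)

/-- The codes in the Mathieu group. -/
noncomputable def m12Code (x : ℕ) : ↥Spor.M12 := if h : x < 192 then ⟨psi12 x, psi12_mem h⟩ else 1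

theorem m12Code_val {x : ℕ} (hx : x < 192) : (m12Code x : Perm GolayPt) = psi12 x := by simp [m12Code, hx]

/-- The packed images of five points under a conjugate of the central involution. -/
def conjPack (w : List ℕ) : ℕ :=
  let v := wordVal q12 w.reverse
  let g := v * psi12 24 * v⁻¹
  (List.range 5).foldl (fun n i => 32 * n + idx (g (pt i))) 0

theorem conj_distinct : (CertA.reps.map conjPack).Nodup := by decide +kernel

theorem reps_lt : (CertA.reps.all fun w => w.all fun i => decide (i < 10)) = true := by decide +kernel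

theorem reps_len : CertA.reps.length = 495 := by decide +kernel

/-- The model lives in the Mathieu group of degree twelve. -/
theorem m12_dat : Dat (m12Code 24) 0 m12Code := by
  classical
  have hmul : ∀ x < 192, ∀ y < 192, m12Code (mmul 0 x y) = m12Code x * m12Code y := fun x hx y hy =>
    Subtype.ext (by
      rw [Subgroup.coe_mul, m12Code_val (mmul_lt (by norm_num) hx hy), m12Code_val hx, m12Code_val hy,
        psi12_mul' x hx y hy])
  have hinj : ∀ x < 192, ∀ y < 192, m12Code x = m12Code y → x = y := by
    intro x hx y hy e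
    obtain ⟨hix, hlt, -, -, hxx⟩ := minv_ok 0 (by norm_num) x hx
    have e' : psi12 x = psi12 y := by rw [← m12Code_val hx, e, m12Code_val hy]
    have h1 : psi12 (mmul 0 (minv 0 x) y) = 1 := by
      rw [psi12_mul' _ hlt _ hy, ← e', ← psi12_mul' _ hlt _ hx, hix, psi12_facts.1]
    have h := all_codes psi12_facts.2.1 (mmul_lt (k := 0) (by norm_num) hlt hy)
    simp only [decide_eq_true_eq] at h
    have h0 := h h1
    calc x = mmul 0 x (mmul 0 (minv 0 x) y) := by rw [h0, (minv_ok 0 (by norm_num) x hx).2.2.2.1]
      _ = mmul 0 (mmul 0 x (minv 0 x)) y := assoc0 hx hlt hy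
      _ = y := by rw [hxx, (minv_ok 0 (by norm_num) y hy).2.2.1]
  refine ⟨by norm_num, hmul, hinj, fun c => ⟨fun hc => ?_, ?_⟩, rfl⟩
  · -- the image of the codes exhausts the centraliser
    set C := Subgroup.centralizer ({m12Code 24} : Set ↥Spor.M12)
    have hidx : 495 ≤ C.index := by
      let f : Fin CertA.reps.length → ↥Spor.M12 ⧸ C := fun i =>
        ((⟨wordVal q12 CertA.reps[i].reverse, wordVal_M12 fun j hj => decide_eq_true_iff.1
          (List.all_eq_true.1 (List.all_eq_true.1 reps_lt _ (List.getElem_mem i.2)) j (List.mem_reverse.1 hj))⟩ :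
          ↥Spor.M12) : ↥Spor.M12 ⧸ C)
      have hf : Function.Injective f := by
        intro i j e
        have hm := QuotientGroup.eq.1 e
        rw [Subgroup.mem_centralizer_singleton_iff] at hm
        have hv : ∀ a b : Perm GolayPt, a⁻¹ * b * psi12 24 = psi12 24 * (a⁻¹ * b) →
            a * psi12 24 * a⁻¹ = b * psi12 24 * b⁻¹ := fun a b h => by
          calc a * psi12 24 * a⁻¹ = a * (psi12 24 * (a⁻¹ * b)) * b⁻¹ := by group
            _ = a * (a⁻¹ * b * psi12 24) * b⁻¹ := by rw [h]
            _ = _ := by group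
        have e2 := congrArg Subtype.val hm
        simp only [Subgroup.coe_mul, Subgroup.coe_inv, m12Code_val (show 24 < 192 by norm_num)] at e2
        have e1 : conjPack CertA.reps[i] = conjPack CertA.reps[j] := by
          simp only [conjPack, hv _ _ e2]
        refine Fin.ext ((List.Nodup.getElem_inj_iff conj_distinct
          (hi := by simp) (hj := by simp)).1 ?_)
        simpa [List.getElem_map] using e1
      have := Nat.card_le_card_of_injective f hf
      rwa [Nat.card_fin, reps_len, ← Subgroup.index_eq_card] at this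
    have hle : Nat.card C ≤ 192 := by
      have h := C.card_mul_index
      rw [CfsgGolay.card_sporM12] at h
      nlinarith
    let F : Fin 192 → C := fun x => ⟨m12Code x, Subgroup.mem_centralizer_singleton_iff.2 (by
      rw [← hmul x x.2 24 (by norm_num), ← hmul 24 (by norm_num) x x.2]
      exact congrArg m12Code (beq_iff_eq.1 (all_codes (p := fun x => mmul 0 x 24 == mmul 0 24 x)
        (by decide +kernel) x.2)))⟩
    have hF : Function.Injective F := fun a b e => Fin.ext (hinj a a.2 b b.2 (congrArg Subtype.val e))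
    have hb : Function.Bijective F := (Nat.bijective_iff_injective_and_card F).2
      ⟨hF, le_antisymm (Nat.card_le_card_of_injective F hF) (by rw [Nat.card_fin]; exact hle)⟩
    obtain ⟨x, hx⟩ := hb.2 ⟨c, Subgroup.mem_centralizer_singleton_iff.2 hc⟩
    exact ⟨x, x.2, congrArg Subtype.val hx⟩
  · rintro ⟨x, hx, rfl⟩
    rw [← hmul x hx 24 (by norm_num), ← hmul 24 (by norm_num) x hx]
    exact congrArg m12Code (beq_iff_eq.1 (all_codes (p := fun x => mmul 0 x 24 == mmul 0 24 x)
      (by decide +kernel) hx))

end CfsgQS3.Zero
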