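import Cfsg.Agent.Lib.QS3.Zero.Facts
import Cfsg.Agent.Lib.QS3.Sylow
import Cfsg.Agent.Lib.InvolutionDihedralEight

/-!
Groups with an involution centraliser `Q.S₃`: the centraliser of an involution of the second class modulo that
involution.
-/

set_option autoImplicit false
set_option maxRecDepth 100000
set_option linter.unusedSectionVars false

namespace CfsgQS3.Zero

/-- A standard action in the type 0. -/
structure Std {G : Type*} [Group G] (s : G) (φ : ℕ → G) (P : Par) (α : G) : Prop where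
  dat : Dat s 0 φ
  par : P = parA ∨ P = parB
  act : Act s φ row0 P.ys α

/-- The centraliser of the involution of the second class. -/
abbrev RSub {G : Type*} [Group G] (φ : ℕ → G) (P : Par) : Subgroup G := Subgroup.centralizer ({φ P.t} : Set G)

/-- The central involution of the centraliser. -/
def tR {G : Type*} [Group G] (φ : ℕ → G) (P : Par) : ↥(RSub φ P) :=
  ⟨φ P.t, Subgroup.mem_centralizer_singleton_iff.2 rfl⟩

instance tR_normal {G : Type*} [Group G] (φ : ℕ → G) (P : Par) : (Subgroup.zpowers (tR φ P)).Normal := by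
  refine ⟨fun x hx g => ?_⟩
  obtain ⟨i, rfl⟩ := Subgroup.mem_zpowers_iff.1 hx
  have hc : Commute g (tR φ P) := Subtype.ext (Subgroup.mem_centralizer_singleton_iff.1 g.2)
  rw [(hc.zpow_right i).eq, mul_inv_cancel_right]
  exact hx

/-- The centraliser modulo the involution. -/
abbrev RBar {G : Type*} [Group G] (φ : ℕ → G) (P : Par) : Type _ := ↥(RSub φ P) ⧸ Subgroup.zpowers (tR φ P)

/-- The class of an element of the centraliser. -/
def q {G : Type*} [Group G] (φ : ℕ → G) (P : Par) : ↥(RSub φ P) →* RBar φ P := QuotientGroup.mk' _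

namespace Std

variable {G : Type*} [Group G] {s : G} {φ : ℕ → G} {P : Par} {α : G} (S : Std s φ P α)
include S

theorem all_par {f : Par → Bool} (h : [parA, parB].all f = true) : f P = true := by
  rcases S.par with rfl | rfl <;> exact List.all_eq_true.1 h _ (by simp)

theorem codes_P : P.t < 192 ∧ P.a < 192 ∧ P.x < 192 ∧ P.t ∈ row0.cen ∧ fap row0 P.ys P.t = P.t ∧
    fap row0 P.ys 24 = 54 ∧ fap row0 P.ys 54 = 78 := by
  have h := S.all_par par_chk
  simp only [parChk, Bool.and_eq_true, decide_eq_true_eq, beq_iff_eq, List.contains_iff_mem] at h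
  obtain ⟨⟨⟨⟨⟨⟨⟨⟨⟨⟨⟨⟨⟨⟨⟨⟨⟨h1, h2⟩, h3⟩, h4⟩, h5⟩, h6⟩, h7⟩, -⟩, -⟩, -⟩, -⟩, -⟩, -⟩, -⟩, -⟩, -⟩, -⟩, -⟩ := h
  exact ⟨h1, h2, h3, h4, h5, h6, h7⟩

theorem twelves_P : isTwelve P.t = true ∧ isTwelve P.a = true ∧ isTwelve (mmul 0 P.a P.t) = true ∧
    isTwelve (mmul 0 24 P.t) = true ∧ P.a ≠ P.t ∧ mmul 0 P.a P.t = mmul 0 P.t P.a ∧
    ∀ n ∈ fourList, isTwelve (mmul 0 n P.t) = true ∧ n < 192 ∧ mmul 0 n P.t = mmul 0 P.t n := by
  have h := S.all_par par_chk
  simp only [parChk, Bool.and_eq_true, decide_eq_true_eq, beq_iff_eq, List.contains_iff_mem, List.all_eq_true,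
    bne_iff_ne, ne_eq] at h
  obtain ⟨⟨⟨⟨⟨⟨⟨⟨⟨⟨⟨-, h1⟩, h2⟩, h3⟩, h4⟩, h5⟩, h6⟩, h7⟩, -⟩, -⟩, -⟩, -⟩ := h
  exact ⟨h1, h2, h3, h4, h5, h6, fun n hn => ⟨(h7 n hn).1.1, (h7 n hn).1.2, (h7 n hn).2⟩⟩

theorem x_P : mmul 0 (mmul 0 P.x P.x) P.x = 0 ∧
    (∀ w ∈ [P.t, P.a], mconj 0 (minv 0 P.x) w ∈ [P.t, P.a, mmul 0 P.a P.t]) ∧ mconj 0 P.x P.t ≠ P.t := by
  have h := S.all_par par_chk
  simp only [parChk, Bool.and_eq_true, decide_eq_true_eq, beq_iff_eq, List.contains_iff_mem, List.all_eq_true,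
    bne_iff_ne, ne_eq] at h
  exact ⟨h.1.1.1.2, h.1.1.2, h.1.2⟩

theorem cent_t : ∀ x ∈ mcent 0 P.t, (mmul 0 x x = 0 ∨ mmul 0 x x = 24) ∧
    (isInv 0 x = true → isTwelve x = true ∨ x ∈ fourList) := by
  have h := S.all_par par_chk
  simp only [parChk, Bool.and_eq_true, decide_eq_true_eq, beq_iff_eq, List.contains_iff_mem, List.all_eq_true,
    Bool.or_eq_true, Bool.not_eq_true', bne_iff_ne, ne_eq] at h
  intro x hx
  obtain ⟨h1, h2⟩ := h.2 x hx
  refine ⟨h1, fun hi => ?_⟩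
  rcases h2 with ((h2 | h2) | h2) | h2
  · rw [hi] at h2; cases h2
  · exact Or.inl h2
  · exact Or.inr h2
  · exact Or.inr (by simp [fourList, h2])

theorem u54 : InU s φ 54 := ⟨α, S.act.conj_s⟩

theorem r_code : row0.r = 54 := rfl

theorem tt : φ P.t * φ P.t = 1 ∧ φ P.t ≠ 1 := by
  have h := S.twelves_P.1
  simp only [isTwelve, isInv, Bool.and_eq_true, beq_iff_eq, bne_iff_ne, ne_eq] at h
  exact ⟨(S.dat.sq_iff S.codes_P.1).2 h.1.1.2,
    fun e => h.1.1.1.1 ((S.dat.eq_one_iff S.codes_P.1).1 e)⟩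

theorem not_conj_twelve {n : ℕ} (hn : n < 192) (h : isTwelve n = true) (g : G) : g * s * g⁻¹ ≠ φ n := fun e =>
  S.dat.not_inU_twelve hn h ⟨g, e⟩

/-- An involution code is that of a conjugate of `s` or is conjugate to the fixed element. -/
theorem code_class {n : ℕ} (hn : n < 192) (hi : isInv 0 n = true) :
    (isTwelve n = false ∧ InU s φ n) ∨ (isTwelve n = true ∧ ∃ c < 192, mconj 0 c n = P.t) := by
  have hR := S.dat
  by_cases h12 : isTwelve n = true
  · refine Or.inr ⟨h12, ?_⟩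
    have h := all_codes (S.all_par twelve_conj) hn
    simp only [h12, Bool.not_true, Bool.false_or, List.any_eq_true, beq_iff_eq] at h
    obtain ⟨c, hc, e⟩ := h
    exact ⟨c, List.mem_range.1 hc, e⟩
  refine Or.inl ⟨by simpa using h12, ?_⟩
  have h := all_codes (S.all_par class_chk) hn
  simp only [hi, h12, Bool.not_true, Bool.false_or, Bool.or_false, Bool.or_eq_true, Bool.and_eq_true,
    List.any_eq_true, beq_iff_eq, List.contains_iff_mem] at h
  rcases h with ⟨-, h6⟩ | ⟨c, hc, hcen, h6⟩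
  · exact hR.inU_six0 hn h6 S.u54
  · have hc' := List.mem_range.1 hc
    have hm := hR.lt_conj hc' hn
    obtain ⟨g, hg⟩ := hR.inU_six0 (fap_lt_of S.act.mem hR _) h6 S.u54
    refine ⟨(φ c)⁻¹ * α⁻¹ * g, ?_⟩
    have e := S.act.act _ hcen
    rw [hR.conj hc' hn] at e
    calc (φ c)⁻¹ * α⁻¹ * g * s * ((φ c)⁻¹ * α⁻¹ * g)⁻¹
        = (φ c)⁻¹ * α⁻¹ * (g * s * g⁻¹) * α * φ c := by group
      _ = φ n := by rw [hg, ← e]; group

theorem q_eq {g h : ↥(RSub φ P)} : q φ P g = q φ P h ↔ (g : G) = h ∨ (g : G) = h * φ P.t := by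
  rw [eq_comm, q, QuotientGroup.mk'_apply, QuotientGroup.mk'_apply, QuotientGroup.eq, Subgroup.mem_zpowers_iff]
  have hval : ∀ i : ℤ, ((tR φ P : ↥(RSub φ P)) ^ i : ↥(RSub φ P)) = 1 ∨
      ((tR φ P : ↥(RSub φ P)) ^ i : ↥(RSub φ P)) = tR φ P := by
    intro i
    have h2 : tR φ P * tR φ P = 1 := Subtype.ext S.tt.1
    rcases Int.even_or_odd i with ⟨j, rfl⟩ | ⟨j, rfl⟩
    · left; rw [← two_mul, zpow_mul, zpow_two, h2, one_zpow]
    · right; rw [zpow_add_one, zpow_mul, zpow_two, h2, one_zpow, one_mul]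
  constructor
  · rintro ⟨i, e⟩
    rcases hval i with hi | hi <;> rw [hi] at e <;> have e' := congrArg Subtype.val e
    · left; exact (inv_mul_eq_one.1 e'.symm).symm
    · right
      simp only [Subgroup.coe_mul, Subgroup.coe_inv, tR] at e'
      rw [e', mul_inv_cancel_left]
  · rintro (e | e)
    · exact ⟨0, Subtype.ext (by simp [e])⟩
    · exact ⟨1, Subtype.ext (by simp [e, tR])⟩

theorem q_eq_one {g : ↥(RSub φ P)} : q φ P g = 1 ↔ (g : G) = 1 ∨ (g : G) = φ P.t := by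
  rw [← map_one (q φ P), S.q_eq]
  simp

theorem mem_R {n : ℕ} (hn : n < 192) (h : mmul 0 n P.t = mmul 0 P.t n) : φ n ∈ RSub φ P :=
  Subgroup.mem_centralizer_singleton_iff.2 ((S.dat.commute_iff hn S.codes_P.1).2 h)

theorem s_mem : s ∈ RSub φ P :=
  Subgroup.mem_centralizer_singleton_iff.2 (S.dat.comm_s S.codes_P.1).symm

theorem α_mem : α ∈ RSub φ P := by
  refine Subgroup.mem_centralizer_singleton_iff.2 (mul_inv_eq_iff_eq_mul.1 ?_)
  rw [S.act.act _ S.codes_P.2.2.2.1, S.codes_P.2.2.2.2.1]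

theorem α_inv : α⁻¹ * s * α = φ 78 := by
  have h54 : (54 : ℕ) ∈ row0.cen := by decide
  have e2 : α * φ 54 * α⁻¹ = φ 78 := by rw [S.act.act _ h54, S.codes_P.2.2.2.2.2.2]
  rw [← e2, show φ 54 = φ row0.r from rfl, ← S.act.conj_s]
  have h3 : α⁻¹ = α * α := (eq_inv_of_mul_eq_one_left S.act.cube).symm
  calc α⁻¹ * s * α = α * α * s * (α * α)⁻¹ := by rw [← h3, inv_inv]
    _ = _ := by group

/-- An element centralising the image of `s` centralises `s`. -/
theorem cent_bar {g : ↥(RSub φ P)} (h : q φ P g * q φ P ⟨s, S.s_mem⟩ = q φ P ⟨s, S.s_mem⟩ * q φ P g) :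
    ∃ n ∈ mcent 0 P.t, φ n = g := by
  have hD := S.dat
  have hg := Subgroup.mem_centralizer_singleton_iff.1 g.2
  have hs : (g : G) * s = s * g := by
    rw [← map_mul, ← map_mul, S.q_eq] at h
    rcases h with h | h
    · exact h
    · exfalso
      refine S.not_conj_twelve (hD.lt_mul (by norm_num) S.codes_P.1) S.twelves_P.2.2.2.1 g ?_
      rw [hD.mul _ (by norm_num) _ S.codes_P.1, hD.zc, mul_inv_eq_iff_eq_mul]
      simp only [Subgroup.coe_mul] at h
      rw [h, mul_assoc, hg, ← mul_assoc]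
  exact hD.mem_cent2 S.codes_P.1 hs hg

theorem dih_facts : (∀ d : DihedralGroup 4, dcode P d < 192 ∧ mmul 0 (dcode P d) P.t = mmul 0 P.t (dcode P d)) ∧
    (∀ d e : DihedralGroup 4, eqT P (dcode P (d * e)) (mmul 0 (dcode P d) (dcode P e)) = true) ∧
    (∀ d : DihedralGroup 4, eqT P (dcode P d) 0 = true → d = 1) ∧
    ∀ x ∈ mcent 0 P.t, ∃ d : DihedralGroup 4, eqT P (dcode P d) x = true := by
  have h := S.all_par dih_chk
  simp only [dihChk, Bool.and_eq_true, decide_eq_true_eq, List.all_eq_true] at h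
  exact ⟨h.1.1.1, h.1.1.2, h.1.2, h.2⟩

theorem eqT_iff {x y : ℕ} (hx : x < 192) (hy : y < 192) : eqT P x y = true ↔ φ x = φ y ∨ φ x = φ y * φ P.t := by
  rw [eqT, Bool.or_eq_true, beq_iff_eq, beq_iff_eq, ← S.dat.mul _ hy _ S.codes_P.1, S.dat.eq_iff hx hy,
    S.dat.eq_iff hx (S.dat.lt_mul hy S.codes_P.1)]

theorem cent_iso : orderOf (q φ P ⟨s, S.s_mem⟩) = 2 ∧
    Nonempty (↥(Subgroup.centralizer ({q φ P ⟨s, S.s_mem⟩} : Set (RBar φ P))) ≃* DihedralGroup 4) := by
  have hD := S.dat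
  obtain ⟨hlt, hmul, hker, hsur⟩ := S.dih_facts
  set z := q φ P ⟨s, S.s_mem⟩
  refine ⟨orderOf_eq_prime ?_ ?_, ?_⟩
  · rw [sq, ← map_mul, S.q_eq_one]
    exact Or.inl hD.s_sq
  · rw [ne_eq, S.q_eq_one]
    rintro (h | h)
    · exact hD.s_ne h
    · exact S.not_conj_twelve S.codes_P.1 S.twelves_P.1 1 (by rw [← h]; simp)
  let f : DihedralGroup 4 → ↥(Subgroup.centralizer ({z} : Set (RBar φ P))) := fun d =>
    ⟨q φ P ⟨φ (dcode P d), S.mem_R (hlt d).1 (hlt d).2⟩, Subgroup.mem_centralizer_singleton_iff.2 (by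
      rw [← map_mul, ← map_mul]
      exact congrArg (q φ P) (Subtype.ext (hD.comm_s (hlt d).1)))⟩
  have fmul : ∀ d e, f (d * e) = f d * f e := by
    intro d e
    refine Subtype.ext ?_
    show q φ P _ = q φ P _ * q φ P _
    rw [← map_mul, S.q_eq]
    have h := (S.eqT_iff (hlt _).1 (hD.lt_mul (hlt d).1 (hlt e).1)).1 (hmul d e)
    rwa [hD.mul _ (hlt d).1 _ (hlt e).1] at h
  let F : DihedralGroup 4 →* ↥(Subgroup.centralizer ({z} : Set (RBar φ P))) := MonoidHom.mk' f fmul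
  refine ⟨(MulEquiv.ofBijective F ⟨?_, ?_⟩).symm⟩
  · rw [injective_iff_map_eq_one]
    intro d hd
    refine hker d ((S.eqT_iff (hlt d).1 (by norm_num)).2 ?_)
    have h1 : q φ P ⟨φ (dcode P d), S.mem_R (hlt d).1 (hlt d).2⟩ = 1 := congrArg Subtype.val hd
    rw [S.q_eq_one] at h1
    rw [hD.one, one_mul]
    exact h1
  · rintro ⟨g, hg⟩
    obtain ⟨g, rfl⟩ := QuotientGroup.mk'_surjective _ g
    obtain ⟨n, hn, e⟩ := S.cent_bar (Subgroup.mem_centralizer_singleton_iff.1 hg)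
    obtain ⟨d, hd⟩ := hsur n hn
    refine ⟨d, Subtype.ext ?_⟩
    show q φ P _ = q φ P g
    rw [S.q_eq, ← e]
    exact (S.eqT_iff (hlt d).1 (mem_mcent.1 hn).1).1 hd

/-- The quotient is a symmetric group of degree four or five. -/
theorem quot_iso [Finite G] : Nonempty (RBar φ P ≃* Equiv.Perm (Fin 4)) ∨
    Nonempty (RBar φ P ≃* Equiv.Perm (Fin 5)) := by
  classical
  have hD := S.dat
  obtain ⟨hord, hiso⟩ := S.cent_iso
  set z := q φ P ⟨s, S.s_mem⟩ with hzdef
  obtain ⟨T, σ, τ, hE⟩ := CfsgLib.InvolutionDihedralEight.exists_eight z hord hiso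
  have hzz : z * z = 1 := by rw [← sq, ← hord, pow_orderOf_eq_one]
  have hz1 : z ≠ 1 := fun e => by rw [e, orderOf_one] at hord; omega
  have klein : ∀ b : RBar φ P, b * b = 1 → z * b = b * z → b ≠ 1 → b ≠ z →
      ∃ U : Subgroup (RBar φ P), IsKleinFour U ∧ U ≤ (T : Subgroup (RBar φ P)) ∧
        ∀ x, x ∈ U ↔ x = 1 ∨ x = z ∨ x = b ∨ x = z * b := by
    intro b hbb hzb hb1 hbz
    have hbz' : ∀ w : RBar φ P, b * (z * w) = z * (b * w) := fun w => by rw [← mul_assoc, ← hzb, mul_assoc]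
    have hzz' : ∀ w : RBar φ P, z * (z * w) = w := fun w => by rw [← mul_assoc, hzz, one_mul]
    have hbb' : ∀ w : RBar φ P, b * (b * w) = w := fun w => by rw [← mul_assoc, hbb, one_mul]
    let U : Subgroup (RBar φ P) :=
      { carrier := {x | x = 1 ∨ x = z ∨ x = b ∨ x = z * b}
        one_mem' := Or.inl rfl
        mul_mem' := by
          rintro x y (hx | hx | hx | hx) (hy | hy | hy | hy) <;> rw [hx, hy] <;>
            simp [mul_assoc, hzz, hbb, hzz', hbb', hbz', ← hzb]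
        inv_mem' := by
          rintro x (hx | hx | hx | hx) <;> rw [hx]
          · exact Or.inl inv_one
          · exact Or.inr (Or.inl (inv_eq_of_mul_eq_one_right hzz))
          · exact Or.inr (Or.inr (Or.inl (inv_eq_of_mul_eq_one_right hbb)))
          · exact Or.inr (Or.inr (Or.inr (inv_eq_of_mul_eq_one_right (by
              rw [mul_assoc, hbz', hbb, mul_one, hzz])))) }
    refine ⟨U, ?_, fun x hx => ?_, fun x => Iff.rfl⟩
    · have hzbne : z * b ≠ 1 := fun e => hbz (mul_left_cancel (e.trans hzz.symm))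
      have hcard : Nat.card U = 4 := by
        show Nat.card ({x | x = 1 ∨ x = z ∨ x = b ∨ x = z * b} : Set (RBar φ P)) = 4
        rw [Nat.card_coe_set_eq, show {x | x = 1 ∨ x = z ∨ x = b ∨ x = z * b} =
          ({1, z, b, z * b} : Set (RBar φ P)) from by ext; simp,
          Set.ncard_insert_of_notMem (by simp [Ne.symm hz1, Ne.symm hb1, Ne.symm hzbne]) (Set.toFinite _),
          Set.ncard_insert_of_notMem (by simp [Ne.symm hbz, hb1]) (Set.toFinite _),
          Set.ncard_pair (fun e => hz1 (mul_eq_right.1 e.symm))]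
      refine ⟨hcard, ?_⟩
      have hsq : ∀ x : U, x ^ 2 = 1 := by
        rintro ⟨x, hx⟩
        refine Subtype.ext ?_
        show x ^ 2 = 1
        rcases hx with hx | hx | hx | hx <;> rw [hx] <;>
          simp [sq, hzz, hbb, mul_assoc, hzz', hbb', hbz', ← hzb]
      have hd : Monoid.exponent U ∣ 2 := Monoid.exponent_dvd_of_forall_pow_eq_one hsq
      rcases (Nat.dvd_prime Nat.prime_two).1 hd with e | e
      · exfalso
        have : Subsingleton U := Monoid.exp_eq_one_iff.1 e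
        rw [Nat.card_unique] at hcard
        omega
      · exact e
    · rw [← hE.cent, Subgroup.mem_centralizer_singleton_iff]
      rcases hx with hx | hx | hx | hx <;> rw [hx]
      · simp
      · exact hzb.symm
      · rw [mul_assoc, ← hzb]
  have hn54 := S.twelves_P.2.2.2.2.2.2 54 (by simp [fourList])
  have hn78 := S.twelves_P.2.2.2.2.2.2 78 (by simp [fourList])
  set aR : ↥(RSub φ P) := ⟨α, S.α_mem⟩
  have hconj : q φ P aR * z * (q φ P aR)⁻¹ = q φ P ⟨φ 54, S.mem_R hn54.2.1 hn54.2.2⟩ := by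
    rw [hzdef, ← map_inv, ← map_mul, ← map_mul]
    exact congrArg (q φ P) (Subtype.ext S.act.conj_s)
  set f := q φ P ⟨φ 54, S.mem_R hn54.2.1 hn54.2.2⟩ with hfdef
  have hconj2 : q φ P aR * f * (q φ P aR)⁻¹ = z * f := by
    rw [hzdef, hfdef, ← map_inv, ← map_mul, ← map_mul, ← map_mul]
    refine congrArg (q φ P) (Subtype.ext ?_)
    show α * φ 54 * α⁻¹ = s * φ 54
    rw [show φ 54 = φ row0.r from rfl, S.act.conj_r]
    exact hD.comm_s (show row0.r < 192 by decide)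
  have hff : f * f = 1 := by
    rw [← hconj, show ∀ a b : RBar φ P, a * b * a⁻¹ * (a * b * a⁻¹) = a * (b * b) * a⁻¹ from fun a b => by group,
      hzz]
    group
  have hzf : z * f = f * z := by
    rw [hzdef, hfdef, ← map_mul, ← map_mul]
    exact congrArg (q φ P) (Subtype.ext (hD.comm_s hn54.2.1).symm)
  have hf1 : f ≠ 1 := fun e => hz1 (conj_eq_one_iff.1 (hconj.trans e))
  have hfz : f ≠ z := by
    rw [hzdef, hfdef, ne_eq, S.q_eq]
    rintro (h | h)
    · exact absurd (hD.inj _ hn54.2.1 _ (by norm_num) (h.trans hD.zc.symm)) (by norm_num)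
    · have h' : φ 54 = φ (mmul 0 24 P.t) := by rw [hD.mul _ (by norm_num) _ S.codes_P.1, hD.zc]; exact h
      exact S.not_conj_twelve (hD.lt_mul (by norm_num) S.codes_P.1) S.twelves_P.2.2.2.1 α (S.act.conj_s.trans h')
  obtain ⟨U₀, hK0, h0, hU0⟩ := klein f hff hzf hf1 hfz
  have hn0 : ¬ CfsgLib.DihedralFusion.Lacking U₀ := by
    intro hl
    have hcube : q φ P aR * q φ P aR * q φ P aR = 1 := by
      rw [← map_mul, ← map_mul, S.q_eq_one]; exact Or.inl S.act.cube
    have hmem : ∀ x ∈ U₀, q φ P aR * x * (q φ P aR)⁻¹ ∈ U₀ := by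
      intro x hx
      rw [hU0] at hx ⊢
      rcases hx with rfl | rfl | rfl | rfl
      · left; group
      · exact Or.inr (Or.inr (Or.inl hconj))
      · exact Or.inr (Or.inr (Or.inr hconj2))
      · right; left
        rw [show q φ P aR * (z * f) * (q φ P aR)⁻¹ =
          (q φ P aR * z * (q φ P aR)⁻¹) * (q φ P aR * f * (q φ P aR)⁻¹) by group, hconj, hconj2, hzf, ← mul_assoc,
          hff, one_mul]
    have hodd : Odd (orderOf (q φ P aR)) := by
      have h3 : orderOf (q φ P aR) ∣ 3 := orderOf_dvd_of_pow_eq_one (by rw [pow_succ, pow_two, hcube])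
      exact (by decide : Odd 3).of_dvd_nat h3
    have hc := hl (q φ P aR) (Subgroup.mem_normalizer_fintype hmem) hodd
    have := Subgroup.mem_centralizer_iff.1 hc z ((hU0 z).2 (Or.inr (Or.inl rfl)))
    rw [← this, mul_inv_cancel_right] at hconj
    exact hfz hconj.symm
  have ha := S.twelves_P
  set b := q φ P ⟨φ P.a, S.mem_R S.codes_P.2.1 ha.2.2.2.2.2.1⟩ with hbdef
  have hbb : b * b = 1 := by
    rw [hbdef, ← map_mul, S.q_eq_one]
    left
    have h := ha.2.1
    simp only [isTwelve, isInv, Bool.and_eq_true, beq_iff_eq] at h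
    exact (hD.sq_iff S.codes_P.2.1).2 h.1.1.2
  have hzb : z * b = b * z := by
    rw [hzdef, hbdef, ← map_mul, ← map_mul]
    exact congrArg (q φ P) (Subtype.ext (hD.comm_s S.codes_P.2.1).symm)
  have hb1 : b ≠ 1 := by
    rw [hbdef, ne_eq, S.q_eq_one]
    rintro (h | h)
    · have h' := ha.2.1
      simp only [isTwelve, isInv, Bool.and_eq_true, beq_iff_eq, bne_iff_ne, ne_eq] at h'
      exact h'.1.1.1.1 ((hD.eq_one_iff S.codes_P.2.1).1 h)
    · exact ha.2.2.2.2.1 (hD.inj _ S.codes_P.2.1 _ S.codes_P.1 h)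
  have hnconj : ¬ IsConj z b := by
    intro h
    obtain ⟨c, hc⟩ := isConj_iff.1 h
    obtain ⟨c, rfl⟩ := QuotientGroup.mk'_surjective _ c
    change q φ P c * z * (q φ P c)⁻¹ = b at hc
    rw [hzdef, hbdef, ← map_inv, ← map_mul, ← map_mul, S.q_eq] at hc
    rcases hc with hc | hc
    · exact S.not_conj_twelve S.codes_P.2.1 ha.2.1 c hc
    · exact S.not_conj_twelve (hD.lt_mul S.codes_P.2.1 S.codes_P.1) ha.2.2.1 c
        (by rw [hD.mul _ S.codes_P.2.1 _ S.codes_P.1]; exact hc)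
  obtain ⟨U₁, hK1, h1, hU1⟩ := klein b hbb hzb hb1 (fun e => hnconj (e ▸ IsConj.refl z))
  have hl1 : CfsgLib.DihedralFusion.Lacking U₁ := by
    by_contra hn1
    exact hnconj ((hE.fusion_four h1 hK1 hn1).2.1 b ((hU1 b).2 (Or.inr (Or.inr (Or.inl rfl)))) hb1)
  exact hE.mixed h0 hK0 hn0 h1 hK1 hl1

end Std

end CfsgQS3.Zero
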