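import Cfsg.Agent.Lib.QS3.Main
import Cfsg.Agent.Lib.QS3.Zero.Model12
import Cfsg.Prelude.Def_SporadicB

/-!
Groups with an involution centraliser `Q.S₃`: simple groups with the centraliser of a central involution of the
Mathieu group of degree twelve.
-/

set_option autoImplicit false
set_option maxRecDepth 100000
set_option linter.unusedSectionVars false

namespace CfsgQS3.Zero

open Cfsg

theorem outer_conj : (codes.all fun n => !isInv 0 n || n % 6 == 0 || codes.any fun c => mconj 0 c n == 1) = true := by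
  decide +kernel

theorem outer_cent : (mcent 0 1).all (fun e => e == 0 || e == 24 || e == 54 || e == 78 ||
    (isInv 0 e && e % 6 != 0)) = true := by decide +kernel

theorem center_codes : (codes.all fun n => n == 0 || n == 24 || codes.any fun x => mmul 0 x n != mmul 0 n x) = true := by
  decide +kernel

/-- A central involution of the Mathieu group is conjugate to the model one. -/
theorem two_central_conj (u : ↥Spor.M12) (hu : IsTwoCentralInvolution u) :
    ∃ c : ↥Spor.M12, c * u * c⁻¹ = m12Code 24 := by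
  classical
  haveI : Fact (Nat.Prime 2) := ⟨Nat.prime_two⟩
  have D := m12_dat
  obtain ⟨ho, P, huP, hc⟩ := hu
  obtain ⟨c, hc'⟩ := D.conj_into_T P.2
  refine ⟨c, ?_⟩
  have hcard : Nat.card (P : Subgroup ↥Spor.M12) = 64 := by
    rw [← D.card_T]; exact (Sylow.card_eq_multiplicity P).trans (Sylow.card_eq_multiplicity D.sylow).symm
  let f : ↥(P : Subgroup ↥Spor.M12) → ↥D.T := fun x => ⟨c * x * c⁻¹, hc' x x.2⟩
  have hf : Function.Bijective f := (Nat.bijective_iff_injective_and_card f).2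
    ⟨fun a b e => Subtype.ext (mul_left_cancel (mul_right_cancel (congrArg Subtype.val e))), by rw [hcard, D.card_T]⟩
  rcases D.central_T (hc' u huP) (fun x hx => by
    obtain ⟨p, hp⟩ := hf.2 ⟨x, hx⟩
    have e : c * (p : ↥Spor.M12) * c⁻¹ = x := congrArg Subtype.val hp
    rw [← e]
    calc c * u * c⁻¹ * (c * (p : ↥Spor.M12) * c⁻¹) = c * (u * p) * c⁻¹ := by group
      _ = c * (p * u) * c⁻¹ := by rw [hc p p.2]
      _ = _ := by group) with h | h
  · exfalso
    rw [conj_eq_one_iff.1 h, orderOf_one] at ho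
    omega
  · exact h

end CfsgQS3.Zero

namespace CfsgQS3.Dat

open Zero

variable {G : Type*} [Group G] [Finite G] {s : G} {φ : ℕ → G} (D : Dat s 0 φ)
include D

/-- A conjugate of `s` centralising `s` leads to one in the class of six elements. -/
theorem exists_inU_six {g : G} (hc : g * s * g⁻¹ * s = s * (g * s * g⁻¹)) (hne : g * s * g⁻¹ ≠ s) :
    ∃ n, n < 192 ∧ n % 6 = 0 ∧ InU s φ n ∧ n ≠ 24 := by
  obtain ⟨n, hn, e⟩ := (D.cent _).1 hc
  have h24 : n ≠ 24 := fun h => hne (by rw [← e, h, D.zc])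
  have hU : InU s φ n := ⟨g, e.symm⟩
  by_contra hno
  push Not at hno
  have hnoQ : ∀ m < 192, m % 6 = 0 → InU s φ m → m = 24 := hno
  have toOne : ∀ m < 192, InU s φ m → m ≠ 24 → ∃ c < 192, mconj 0 c m = 1 := by
    intro m hm hmU hm24
    have h := all_codes outer_conj hm
    simp only [D.inU_isInv hm hmU hm24, Bool.not_true, Bool.false_or, Bool.or_eq_true, beq_iff_eq,
      List.any_eq_true] at h
    rcases h with h | ⟨c, hc, h⟩
    · exact absurd (hnoQ m hm h hmU) hm24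
    · exact ⟨c, List.mem_range.1 hc, h⟩
  obtain ⟨c, hc', e1⟩ := toOne n hn hU h24
  obtain ⟨g₁, hg₁⟩ : InU s φ 1 := e1 ▸ D.inU_conj hn hc' hU
  obtain ⟨m, hm, em, hmU, hm24, -, -⟩ := D.partner (by norm_num) hg₁ (by norm_num)
  obtain ⟨d, hd, e2⟩ := toOne m hm hmU hm24
  -- an element exchanging `s` and `φ 1`
  set β := g₁ * (φ d)⁻¹ with hβ
  have hds : (φ d)⁻¹ * s * φ d = s := by rw [mul_assoc, ← D.comm_s hd]; group
  have b1 : β * s * β⁻¹ = φ 1 := by
    rw [hβ, ← hg₁]
    calc g₁ * (φ d)⁻¹ * s * (g₁ * (φ d)⁻¹)⁻¹ = g₁ * ((φ d)⁻¹ * s * φ d) * g₁⁻¹ := by group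
      _ = _ := by rw [hds]
  have b2 : β * φ 1 * β⁻¹ = s := by
    rw [hβ, ← e2, D.conj hd hm, ← em]; group
  have hE : ∀ x, x < 192 → mmul 0 x 1 = mmul 0 1 x → ∃ y ∈ mcent 0 1, φ y = β * φ x * β⁻¹ := by
    intro x hx hx1
    have c1 := D.comm_s hx
    have c2 := (D.commute_iff hx (by norm_num)).2 hx1
    refine D.mem_cent2 (by norm_num) ?_ ?_
    · rw [← b2]
      calc β * φ x * β⁻¹ * (β * φ 1 * β⁻¹) = β * (φ x * φ 1) * β⁻¹ := by group
        _ = _ := by rw [c2]; group
    · rw [← b1]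
      calc β * φ x * β⁻¹ * (β * s * β⁻¹) = β * (φ x * s) * β⁻¹ := by group
        _ = _ := by rw [c1]; group
  have hmem : ∀ x, (x = 54 ∨ x = 78) → β * φ x * β⁻¹ = φ 54 ∨ β * φ x * β⁻¹ = φ 78 := by
    intro x hx
    have hx' : x < 192 ∧ mmul 0 x 1 = mmul 0 1 x ∧ x ≠ 0 ∧ x ≠ 24 ∧ x % 6 = 0 := by
      rcases hx with rfl | rfl <;> decide +kernel
    obtain ⟨y, hy, ey⟩ := hE x hx'.1 hx'.2.1
    have hyl := (mem_mcent.1 hy).1
    have notU : ¬ InU s φ x := fun h => hx'.2.2.2.1 (hnoQ x hx'.1 hx'.2.2.2.2 h)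
    have notU' : ¬ InU s φ y := fun ⟨h, hh⟩ => notU ⟨β⁻¹ * h, by
      calc β⁻¹ * h * s * (β⁻¹ * h)⁻¹ = β⁻¹ * (h * s * h⁻¹) * β := by group
        _ = φ x := by rw [hh, ey]; group⟩
    have h := List.all_eq_true.1 outer_cent y hy
    simp only [Bool.or_eq_true, Bool.and_eq_true, beq_iff_eq, bne_iff_ne, ne_eq] at h
    rcases h with (((h | h) | h) | h) | ⟨hi, h6⟩
    · exfalso
      rw [h, D.one] at ey
      exact hx'.2.2.1 ((D.eq_one_iff hx'.1).1 (conj_eq_one_iff.1 ey.symm))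
    · exact absurd (h ▸ D.inU_z) notU'
    · exact Or.inl (by rw [← ey, h])
    · exact Or.inr (by rw [← ey, h])
    · exfalso
      refine notU' ?_
      have h' := all_codes outer_conj hyl
      simp only [hi, Bool.not_true, Bool.false_or, Bool.or_eq_true, beq_iff_eq, h6, false_or,
        List.any_eq_true] at h'
      obtain ⟨c, hcc, ec⟩ := h'
      refine ⟨(φ c)⁻¹ * g₁, ?_⟩
      calc (φ c)⁻¹ * g₁ * s * ((φ c)⁻¹ * g₁)⁻¹ = (φ c)⁻¹ * (g₁ * s * g₁⁻¹) * φ c := by group
        _ = (φ c)⁻¹ * φ (mconj 0 c y) * φ c := by rw [hg₁, ec]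
        _ = φ y := by rw [D.conj (List.mem_range.1 hcc) hyl]; group
  have hzp : φ 54 * φ 78 = s ∧ φ 78 * φ 54 = s ∧ φ 54 * φ 54 = 1 ∧ φ 78 * φ 78 = 1 := by
    simp only [← D.mul _ (show 54 < 192 by norm_num) _ (show 78 < 192 by norm_num),
      ← D.mul _ (show 78 < 192 by norm_num) _ (show 54 < 192 by norm_num),
      ← D.mul _ (show 54 < 192 by norm_num) _ (show 54 < 192 by norm_num),
      ← D.mul _ (show 78 < 192 by norm_num) _ (show 78 < 192 by norm_num), ← D.zc, ← D.one]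
    exact ⟨congrArg φ (by decide +kernel), congrArg φ (by decide +kernel), congrArg φ (by decide +kernel),
      congrArg φ (by decide +kernel)⟩
  have hfix : β * s * β⁻¹ = s := by
    have hne : β * φ 54 * β⁻¹ ≠ β * φ 78 * β⁻¹ := fun h =>
      absurd (D.inj _ (by norm_num) _ (by norm_num) (mul_left_cancel (mul_right_cancel h))) (by norm_num)
    have e : β * s * β⁻¹ = β * φ 54 * β⁻¹ * (β * φ 78 * β⁻¹) := by
      rw [← hzp.1]; group
    rcases hmem 54 (Or.inl rfl) with a | a <;> rcases hmem 78 (Or.inr rfl) with b | b <;> rw [a, b] at e hne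
    · exact absurd rfl hne
    · rw [e, hzp.1]
    · rw [e, hzp.2.1]
    · exact absurd rfl hne
  rw [hfix] at b1
  exact absurd (D.inj 24 (by norm_num) 1 (by norm_num) (D.zc.trans b1)) (by norm_num)

end CfsgQS3.Dat
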